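import Groth.Agent.WeilLib.LogDeriv
import Groth.Prelude.Def_W4c1zetahwZeta
import Mathlib.RingTheory.PowerSeries.Trunc

/-! Formal manipulation of zeta functions through logarithmic derivatives. -/

universe u

open PowerSeries AlgebraicGeometry CategoryTheory

namespace Groth.Agent.ZetaLib

open Groth.Agent.WeilLib

variable {k : Type u} [Field k] {X : Scheme.{u}} (f : X ⟶ Spec (CommRingCat.of k))

/-- `Σ N_{m+1} t^m`. -/
noncomputable def lam : ℚ⟦X⟧ := PowerSeries.mk fun m => (Zeta.nPts f (m + 1) : ℚ)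

theorem zeta_ode :
    d⁄dX ℚ (Zeta.zetaFun f) = -(-lam f) * Zeta.zetaFun f ∧
      PowerSeries.constantCoeff (Zeta.zetaFun f) = 1 := by
  have hL0 : PowerSeries.constantCoeff (Zeta.logZeta f) = 0 := by
    rw [← PowerSeries.coeff_zero_eq_constantCoeff_apply, Zeta.logZeta, PowerSeries.coeff_mk]; simp
  obtain ⟨h1, h2⟩ := derivative_exp_subst _ hL0
  refine ⟨?_, h2⟩
  rw [Zeta.zetaFun, h1, neg_neg]
  congr 1
  refine PowerSeries.ext fun m => ?_
  rw [coeff_derivative, Zeta.logZeta, PowerSeries.coeff_mk, lam, PowerSeries.coeff_mk, Nat.cast_succ,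
    div_mul_cancel₀ _ (by positivity)]

variable {K : Type*} [Field K]

theorem ode_one_sub_C_mul_X (c : K) :
    d⁄dX K (1 - PowerSeries.C c * PowerSeries.X) =
      -(PowerSeries.mk fun m => c ^ (m + 1)) * (1 - PowerSeries.C c * PowerSeries.X) := by
  refine PowerSeries.ext fun m => ?_
  rw [coeff_derivative, mul_sub, mul_one, neg_mul, sub_neg_eq_add, map_add, map_neg,
    ← mul_assoc, mul_comm _ (PowerSeries.C c), mul_assoc, coeff_C_mul, map_sub, coeff_C_mul]
  rcases m with _ | m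
  · simp [coeff_X]
  · simp [coeff_X, coeff_succ_mul_X, pow_succ']

theorem ode_one_sub_X_pow {r : ℕ} (hr : 0 < r) :
    d⁄dX K (1 - (PowerSeries.X : K⟦X⟧) ^ r) =
      -(PowerSeries.mk fun m => if r ∣ m + 1 then (r : K) else 0) * (1 - PowerSeries.X ^ r) := by
  refine PowerSeries.ext fun m => ?_
  rw [coeff_derivative, mul_sub, mul_one, neg_mul, sub_neg_eq_add, map_add, map_neg, coeff_mul_X_pow',
    map_sub, coeff_X_pow, coeff_mk]
  by_cases h : r ≤ m
  · rw [if_pos h, coeff_mk, show m - r + 1 = m + 1 - r by omega]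
    have hne : ¬ m + 1 = r := by omega
    have hiff : r ∣ m + 1 ↔ r ∣ m + 1 - r :=
      ⟨fun h => Nat.dvd_sub h dvd_rfl, fun h => (Nat.dvd_sub_self_right.1 h).resolve_right (by omega)⟩
    simp only [if_neg hne, coeff_one, Nat.succ_ne_zero, if_false, sub_zero, zero_mul, ← hiff]
    ring
  · rw [if_neg h]
    by_cases h2 : m + 1 = r
    · subst h2; simp
    · have : ¬ r ∣ m + 1 := fun hd => h2 (le_antisymm (by omega) (Nat.le_of_dvd (by omega) hd))
      simp [h2, this]

theorem ode_pow {P S : K⟦X⟧} (h : d⁄dX K P = -S * P) (a : ℕ) :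
    d⁄dX K (P ^ a) = -((a : K⟦X⟧) * S) * P ^ a := by
  induction a with
  | zero => simp
  | succ a ih =>
    rw [pow_succ, Derivation.leibniz, smul_eq_mul, smul_eq_mul, ih, h, Nat.cast_succ]
    ring

theorem ode_mul {P S Q T : K⟦X⟧} (hP : d⁄dX K P = -S * P) (hQ : d⁄dX K Q = -T * Q) :
    d⁄dX K (P * Q) = -(S + T) * (P * Q) := by
  rw [Derivation.leibniz, smul_eq_mul, smul_eq_mul, hP, hQ]; ring

theorem zeta_eq_prod {ι : Type*} [Fintype ι] {Y : ι → Scheme.{u}} (g : ∀ i, Y i ⟶ Spec (CommRingCat.of k))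
    (h : ∀ m, Zeta.nPts f (m + 1) = ∑ i, Zeta.nPts (g i) (m + 1)) :
    Zeta.zetaFun f = ∏ i, Zeta.zetaFun (g i) := by
  refine eq_of_derivative_eq (S := -lam f) (zeta_ode f).1 ?_ (zeta_ode f).2 ?_
  · rw [derivative_prod _ _ (fun i => -lam (g i)) fun i _ => (zeta_ode (g i)).1]
    congr 2
    rw [Finset.sum_neg_distrib, neg_inj]
    refine PowerSeries.ext fun m => ?_
    simp [lam, h m]
  · rw [map_prod]
    exact Finset.prod_eq_one fun i _ => (zeta_ode (g i)).2

theorem zeta_eq_rescale {Y : Scheme.{u}} (g : Y ⟶ Spec (CommRingCat.of k)) (c : ℕ)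
    (h : ∀ m, Zeta.nPts f (m + 1) = c ^ (m + 1) * Zeta.nPts g (m + 1)) :
    Zeta.zetaFun f = PowerSeries.rescale (c : ℚ) (Zeta.zetaFun g) := by
  refine eq_of_derivative_eq (S := -lam f) (zeta_ode f).1 ?_ (zeta_ode f).2 ?_
  · have hd : d⁄dX ℚ (PowerSeries.rescale (c : ℚ) (Zeta.zetaFun g)) =
        PowerSeries.C (c : ℚ) * PowerSeries.rescale (c : ℚ) (d⁄dX ℚ (Zeta.zetaFun g)) := by
      refine PowerSeries.ext fun m => ?_
      simp only [coeff_derivative, coeff_rescale, coeff_C_mul, pow_succ]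
      ring
    rw [hd, (zeta_ode g).1, map_mul, ← mul_assoc, neg_neg, neg_neg]
    congr 1
    refine PowerSeries.ext fun m => ?_
    simp only [lam, coeff_C_mul, coeff_rescale, coeff_mk, h m]
    push_cast
    ring
  · rw [← coeff_zero_eq_constantCoeff_apply, coeff_rescale, pow_zero, one_mul,
      coeff_zero_eq_constantCoeff_apply, (zeta_ode g).2]

/-- A solution of `W' = -S W`, `W(0) = 1` with `S` vanishing below order `n` is `1` modulo `t^(n+1)`. -/
theorem trunc_eq_one_of_ode {W S : ℚ⟦X⟧} (h : d⁄dX ℚ W = -S * W) (h0 : PowerSeries.constantCoeff W = 1) (n : ℕ)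
    (hS : ∀ m < n, coeff m S = 0) : trunc (n + 1) W = 1 := by
  refine Polynomial.ext fun m => ?_
  rw [coeff_trunc, Polynomial.coeff_one]
  split_ifs with h1 h2
  · rw [h2, coeff_zero_eq_constantCoeff_apply, h0]
  · obtain ⟨j, rfl⟩ := Nat.exists_eq_succ_of_ne_zero h2
    have hj := congrArg (coeff j) h
    rw [coeff_derivative, coeff_mul, Finset.sum_eq_zero fun x hx => by
      rw [map_neg, hS x.1 (by have := Finset.mem_antidiagonal.1 hx; omega), neg_zero, zero_mul]] at hj
    exact (mul_eq_zero.1 hj).resolve_right (by positivity)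
  · subst m; omega
  · rfl

end Groth.Agent.ZetaLib
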