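import Groth.Agent.ZetaLib.Points
import Groth.Agent.ZetaLib.Formal
import Mathlib.AlgebraicGeometry.Morphisms.Immersion
import Mathlib.AlgebraicGeometry.AffineSpace

/-! `N_m` as numbers of rational points. -/

universe u

open CategoryTheory CategoryTheory.Limits AlgebraicGeometry

namespace Groth.Agent.ZetaLib

open Groth.Agent.DimLib

variable {k : Type u} [Field k] [Finite k] {X : Scheme.{u}} (f : X ⟶ Spec (CommRingCat.of k))

theorem nPts_eq_card [LocallyOfFiniteType f] [QuasiCompact f] (k' : Type u) [Field k'] [Algebra k k'] [Finite k'] :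
    Zeta.nPts f (Module.finrank k k') = Nat.card (Pts f k') :=
  (pointCount_eq f k').symm

variable (k) in
theorem exists_extension (m : ℕ) :
    ∃ (k' : Type u) (_ : Field k') (_ : Algebra k k') (_ : Finite k'), Module.finrank k k' = m + 1 := by
  obtain ⟨p, hp⟩ := CharP.exists k
  have : Fact p.Prime := ⟨CharP.char_is_prime k p⟩
  exact ⟨ULift.{u} (FiniteField.Extension k p (m + 1)), inferInstance, inferInstance, inferInstance,
    (ULift.moduleEquiv : ULift.{u} (FiniteField.Extension k p (m + 1)) ≃ₗ[k] _).finrank_eq.trans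
      (FiniteField.finrank_extension k p (m + 1))⟩

/-- Lift of a field valued point through an immersion. -/
theorem exists_lift {Y : Scheme.{u}} (i : Y ⟶ X) [IsImmersion i] {L : Type u} [Field L]
    (g : Spec (CommRingCat.of L) ⟶ X) (y : Y) (hy : i y = g (IsLocalRing.closedPoint L)) :
    ∃ h : Spec (CommRingCat.of L) ⟶ Y, h ≫ i = g := by
  obtain ⟨φ, hφ⟩ : ∃ φ : X.residueField (g (IsLocalRing.closedPoint L)) ⟶ CommRingCat.of L,
      Spec.map φ ≫ X.fromSpecResidueField _ = g :=
    ⟨_, Scheme.descResidueField_stalkClosedPointTo_fromSpecResidueField L X g⟩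
  revert φ
  rw [← hy]
  intro φ hφ
  have : IsIso (i.residueFieldMap y) := by
    refine (ConcreteCategory.isIso_iff_bijective _).2 ⟨(i.residueFieldMap y).hom.injective, fun z => ?_⟩
    obtain ⟨a, rfl⟩ := IsLocalRing.residue_surjective z
    obtain ⟨b, rfl⟩ := i.stalkMap_surjective y a
    exact ⟨IsLocalRing.residue _ b, rfl⟩
  refine ⟨Spec.map (inv (i.residueFieldMap y) ≫ φ) ≫ Y.fromSpecResidueField y, ?_⟩
  rw [Spec.map_comp, Category.assoc, Category.assoc, ← Scheme.Hom.SpecMap_residueFieldMap_fromSpecResidueField,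
    ← Spec.map_comp_assoc (i.residueFieldMap y), IsIso.hom_inv_id, Spec.map_id, Category.id_comp, hφ]

theorem pts_isClosed [LocallyOfFiniteType f] {k' : Type u} [Field k'] [Algebra k k'] [Finite k'] (h : Pts f k') :
    IsClosed ({h.1 (IsLocalRing.closedPoint k')} : Set X) := by
  obtain ⟨⟨x, φ⟩, rfl⟩ := (ptsEquiv f k').surjective h
  have e : (ptsEquiv f k' ⟨x, φ⟩).1 (IsLocalRing.closedPoint k') = x := X.fromSpecResidueField_apply x _
  rw [e]
  exact (ptData_dvd f k' φ).1

theorem quasiCompact_comp_of_immersion [LocallyOfFiniteType f] [QuasiCompact f] {Y : Scheme.{u}} (i : Y ⟶ X)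
    [IsImmersion i] : QuasiCompact i := by
  have : IsLocallyNoetherian X := LocallyOfFiniteType.isLocallyNoetherian f
  have : CompactSpace X := QuasiCompact.compactSpace_of_compactSpace f
  have : IsNoetherian X := ⟨⟩
  have : TopologicalSpace.NoetherianSpace Y := i.isEmbedding.isInducing.noetherianSpace
  infer_instance

theorem nPts_eq_sum [LocallyOfFiniteType f] [QuasiCompact f] {ι : Type*} [Fintype ι] (Y : ι → Scheme.{u})
    (g : ∀ i, Y i ⟶ X) [∀ i, IsImmersion (g i)]
    (hpart : ∀ x : X, IsClosed ({x} : Set X) → ∃! i, x ∈ Set.range (g i)) (m : ℕ) :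
    Zeta.nPts f (m + 1) = ∑ i, Zeta.nPts (g i ≫ f) (m + 1) := by
  obtain ⟨k', _, _, _, hk'⟩ := exists_extension k m
  have : ∀ i, QuasiCompact (g i) := fun i => quasiCompact_comp_of_immersion f (g i)
  rw [← hk', nPts_eq_card, Finset.sum_congr rfl fun i _ => nPts_eq_card (g i ≫ f) k']
  have : ∀ i, Finite (Pts (g i ≫ f) k') := fun i => finite_pts _ k'
  rw [← Nat.card_sigma]
  refine (Nat.card_eq_of_bijective
    (fun σ : Σ i, Pts (g i ≫ f) k' => (⟨σ.2.1 ≫ g σ.1, by rw [Category.assoc]; exact σ.2.2⟩ : Pts f k'))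
    ⟨?_, fun h => ?_⟩).symm
  · rintro ⟨a, u⟩ ⟨b, v⟩ e
    have e' : u.1 ≫ g a = v.1 ≫ g b := congrArg Subtype.val e
    have hab : a = b := by
      let x := (u.1 ≫ g a) (IsLocalRing.closedPoint k')
      obtain ⟨i, -, huniq⟩ := hpart x
        (pts_isClosed f (⟨u.1 ≫ g a, by rw [Category.assoc]; exact u.2⟩ : Pts f k'))
      have hb : x ∈ Set.range (g b) := by
        show (u.1 ≫ g a) (IsLocalRing.closedPoint k') ∈ _
        rw [e']; exact ⟨_, rfl⟩
      exact (huniq a ⟨_, rfl⟩).trans (huniq b hb).symm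
    subst hab
    obtain rfl : u = v := Subtype.ext ((cancel_mono (g a)).1 e')
    rfl
  · obtain ⟨i, ⟨y, hy⟩, -⟩ := hpart _ (pts_isClosed f h)
    obtain ⟨u, hu⟩ := exists_lift (g i) h.1 y hy
    exact ⟨⟨i, u, by rw [reassoc_of% hu]; exact h.2⟩, Subtype.ext hu⟩

theorem nPts_affineLine [LocallyOfFiniteType f] [QuasiCompact f] (m : ℕ) :
    Zeta.nPts ((𝔸(PUnit.{u + 1}; X) ↘ X) ≫ f) (m + 1) = Nat.card k ^ (m + 1) * Zeta.nPts f (m + 1) := by
  obtain ⟨k', _, _, _, hk'⟩ := exists_extension k m
  have : Module.Finite k k' := Module.Finite.of_finite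
  have hcard : Nat.card k' = Nat.card k ^ (m + 1) := by rw [Module.natCard_eq_pow_finrank (K := k), hk']
  rw [← hk', nPts_eq_card, nPts_eq_card, hk', ← hcard, mul_comm, ← Nat.card_prod]
  let Γk : Γ(Spec (CommRingCat.of k'), ⊤) ≃ k' :=
    (Scheme.ΓSpecIso (CommRingCat.of k')).commRingCatIsoToRingEquiv.toEquiv
  refine Nat.card_congr
    { toFun := fun h => (⟨h.1 ≫ 𝔸(PUnit.{u + 1}; X) ↘ X, by rw [Category.assoc]; exact h.2⟩,
        Γk (h.1.appTop (AffineSpace.coord X PUnit.unit)))
      invFun := fun q => ⟨AffineSpace.homOfVector q.1.1 (fun _ => Γk.symm q.2), by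
        rw [← Category.assoc, AffineSpace.homOfVector_over]; exact q.1.2⟩
      left_inv := fun h => Subtype.ext (AffineSpace.hom_ext (AffineSpace.homOfVector_over _ _) fun i => by
        rw [AffineSpace.homOfVector_appTop_coord]; exact Γk.symm_apply_apply _)
      right_inv := fun q => Prod.ext (Subtype.ext (AffineSpace.homOfVector_over _ _))
        ((congrArg Γk (AffineSpace.homOfVector_appTop_coord _ _ _)).trans (Γk.apply_symm_apply _)) }

theorem nPts_baseChange [LocallyOfFiniteType f] [QuasiCompact f] (k' : Type u) [Field k'] [Algebra k k'] [Finite k']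
    (m : ℕ) :
    Zeta.nPts (pullback.snd f (Spec.map (CommRingCat.ofHom (algebraMap k k')))) (m + 1) =
      Zeta.nPts f ((m + 1) * Module.finrank k k') := by
  obtain ⟨L, _, _, _, hL⟩ := exists_extension k' m
  letI : Algebra k L := ((algebraMap k' L).comp (algebraMap k k')).toAlgebra
  haveI : IsScalarTower k k' L := IsScalarTower.of_algebraMap_eq fun _ => rfl
  have hfin : Module.finrank k L = (m + 1) * Module.finrank k k' := by
    rw [← Module.finrank_mul_finrank k k' L, hL, mul_comm]
  rw [← hfin, ← hL, nPts_eq_card, nPts_eq_card]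
  have e : Spec.map (CommRingCat.ofHom (algebraMap k' L)) ≫ Spec.map (CommRingCat.ofHom (algebraMap k k')) =
      Spec.map (CommRingCat.ofHom (algebraMap k L)) := by
    rw [← Spec.map_comp]; rfl
  refine Nat.card_congr
    { toFun := fun h => ⟨h.1 ≫ pullback.fst _ _, by rw [Category.assoc, pullback.condition, reassoc_of% h.2, e]⟩
      invFun := fun h => ⟨pullback.lift h.1 (Spec.map (CommRingCat.ofHom (algebraMap k' L))) (by rw [h.2, e]),
        pullback.lift_snd _ _ _⟩
      left_inv := fun h => Subtype.ext (pullback.hom_ext (pullback.lift_fst _ _ _)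
        ((pullback.lift_snd _ _ _).trans h.2.symm))
      right_inv := fun h => Subtype.ext (pullback.lift_fst _ _ _) }

end Groth.Agent.ZetaLib
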