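import Mathlib.AlgebraicGeometry.Morphisms.Finite
import Mathlib.AlgebraicGeometry.ResidueField
import Mathlib.RingTheory.Jacobson.Ring
import Mathlib.Algebra.Algebra.ZMod
import Mathlib.RingTheory.Finiteness.Basic
import Mathlib.RingTheory.PrincipalIdealDomain

/-! Closed points of schemes of finite type over the integers have finite residue fields. -/

universe u

namespace Groth.Agent.ZetaLib

open CategoryTheory AlgebraicGeometry

theorem isJacobsonRing_int : IsJacobsonRing ℤ := by
  rw [isJacobsonRing_iff_prime_eq]
  intro p hp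
  by_cases h : p = ⊥
  · subst h
    refine le_antisymm (fun x hx => ?_) bot_le
    rw [Ideal.mem_jacobson_bot] at hx
    rcases Int.isUnit_iff.1 (hx 3) with h | h <;> [skip; omega] <;> simp <;> omega
  · exact Ideal.jacobson_eq_self_of_isMaximal (H := IsPrime.to_maximal_ideal (hpi := hp) h)

theorem finite_of_finiteType_int (K : Type*) [Field K] [Algebra.FiniteType ℤ K] : Finite K := by
  have := isJacobsonRing_int
  have hfin : Module.Finite ℤ K := finite_of_finite_type_of_isJacobsonRing ℤ K
  obtain ⟨p, hp⟩ := CharP.exists K
  rcases CharP.char_is_prime_or_zero K p with hpp | h0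
  · have : Fact p.Prime := ⟨hpp⟩
    let : Algebra (ZMod p) K := ZMod.algebra K p
    have : Module.Finite (ZMod p) K := Module.Finite.of_restrictScalars_finite ℤ (ZMod p) K
    exact Module.finite_of_finite (ZMod p)
  · subst h0
    have : CharZero K := CharP.charP_to_charZero K
    have : Algebra.IsIntegral ℤ K := Algebra.IsIntegral.of_finite ℤ K
    exact absurd (isField_of_isIntegral_of_isField (R := ℤ) (S := K) (algebraMap ℤ K).injective_int (Field.toIsField K))
      Int.not_isField

theorem finite_residueField {X : Scheme.{u}} (f : X ⟶ Spec (CommRingCat.of (ULift.{u} ℤ)))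
    [LocallyOfFiniteType f] (x : X) (hx : IsClosed ({x} : Set X)) : Finite (X.residueField x) := by
  have : IsJacobsonRing (ULift.{u} ℤ) := (isJacobsonRing_iso ULift.ringEquiv.symm).mp isJacobsonRing_int
  have : JacobsonSpace X := LocallyOfFiniteType.jacobsonSpace f
  have h1 : LocallyOfFiniteType (X.fromSpecResidueField x) := (isClosed_singleton_iff_locallyOfFiniteType).mp hx
  have h2 : LocallyOfFiniteType (X.fromSpecResidueField x ≫ f) := inferInstance
  obtain ⟨φ, hφ⟩ : ∃ φ, Spec.map φ = X.fromSpecResidueField x ≫ f := Spec.map_surjective _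
  rw [← hφ] at h2
  have h3 : φ.hom.FiniteType := (HasRingHomProperty.Spec_iff (P := @LocallyOfFiniteType)).mp h2
  have h4 : (φ.hom.comp (ULift.ringEquiv (R := ℤ)).symm.toRingHom).FiniteType :=
    h3.comp (RingHom.FiniteType.of_surjective _ (ULift.ringEquiv (R := ℤ)).symm.surjective)
  rw [RingHom.eq_intCast' (φ.hom.comp _)] at h4
  have : Algebra.FiniteType ℤ (X.residueField x) :=
    RingHom.finiteType_algebraMap.mp ((RingHom.eq_intCast' (algebraMap ℤ (X.residueField x))).symm ▸ h4)
  exact finite_of_finiteType_int _

end Groth.Agent.ZetaLib
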