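import Groth.Agent.DimLib.Algebra
import Mathlib.Data.ZMod.Basic
import Mathlib.Algebra.Algebra.ZMod
import Mathlib.Algebra.Algebra.Rat
import Mathlib.FieldTheory.Finite.Basic
import Mathlib.Algebra.CharP.Two
import Mathlib.Analysis.SpecialFunctions.Pow.Real
import Mathlib.RingTheory.KrullDimension.PID
import Mathlib.Algebra.Polynomial.Lifts
import Mathlib.RingTheory.Localization.FractionRing
import Mathlib.Algebra.CharP.Algebra
import Mathlib.RingTheory.IntegralClosure.IsIntegralClosure.Basic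

/-! Uniform bounds for the number of points of finitely generated rings in finite fields. -/

namespace Groth.Agent.ZetaLib

universe w

open Groth.Agent.DimLib

theorem finite_ringHom (A : Type*) [CommRing A] [Algebra.FiniteType ℤ A] (F : Type*) [Field F] [Finite F] :
    Finite (A →+* F) := by
  obtain ⟨s, hs⟩ := Algebra.FiniteType.out (R := ℤ) (A := A)
  refine Finite.of_injective (fun ψ (x : s) => ψ x.1) fun ψ₁ ψ₂ h => ?_
  have : ψ₁.toIntAlgHom = ψ₂.toIntAlgHom :=
    AlgHom.ext_of_adjoin_eq_top hs fun x hx => congrFun h ⟨x, hx⟩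
  exact RingHom.ext fun x => congrArg (fun φ : A →ₐ[ℤ] F => φ x) this

/-- Generators with algebraic relations bound the number of points over the base. -/
theorem card_ringHom_le {B A F : Type*} [CommRing B] [CommRing A] [Field F] [Finite (B →+* F)] (i : B →+* A)
    {ι : Type*} [Fintype ι] (a : ι → A)
    (hgen : Subring.closure (Set.range i ∪ Set.range a) = ⊤) (f : ι → Polynomial B)
    (hroot : ∀ l, (f l).eval₂ i (a l) = 0) (hne : ∀ ψ : A →+* F, ∀ l, (f l).map (ψ.comp i) ≠ 0) :
    Nat.card (A →+* F) ≤ Nat.card (B →+* F) * ∏ l, (f l).natDegree := by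
  classical
  have := Fintype.ofFinite (B →+* F)
  let g : (A →+* F) → Σ φ : B →+* F, (∀ l : ι, ↥((f l).map φ).roots.toFinset) := fun ψ =>
    ⟨ψ.comp i, fun l => ⟨ψ (a l), by
      rw [Multiset.mem_toFinset, Polynomial.mem_roots (hne ψ l), Polynomial.IsRoot, Polynomial.eval_map,
        ← Polynomial.hom_eval₂, hroot, map_zero]⟩⟩
  have hg : Function.Injective g := by
    intro ψ₁ ψ₂ h
    have h1 : ψ₁.comp i = ψ₂.comp i := congrArg Sigma.fst h
    have h2 : ∀ l, ψ₁ (a l) = ψ₂ (a l) := fun l => by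
      have := congrArg (fun p : Σ φ : B →+* F, (∀ l : ι, ↥((f l).map φ).roots.toFinset) => ((p.2 l).1 : F)) h
      exact this
    have : Set.EqOn ψ₁ ψ₂ (Subring.closure (Set.range i ∪ Set.range a)) := RingHom.eqOn_set_closure (by
      rintro _ (⟨b, rfl⟩ | ⟨l, rfl⟩)
      · exact RingHom.congr_fun h1 b
      · exact h2 l)
    exact RingHom.ext fun x => this (by rw [hgen]; trivial)
  refine (Nat.card_le_card_of_injective g hg).trans ?_
  rw [Nat.card_sigma, Nat.card_eq_fintype_card, ← smul_eq_mul, ← Finset.card_univ, ← Finset.sum_const]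
  refine Finset.sum_le_sum fun φ _ => ?_
  rw [Nat.card_pi]
  refine Finset.prod_le_prod' fun l _ => ?_
  rw [Nat.card_eq_fintype_card, Fintype.card_coe]
  exact (Multiset.toFinset_card_le _).trans ((Polynomial.card_roots' _).trans Polynomial.natDegree_map_le)

theorem card_ringHom_mvPolynomial_le {R F : Type*} [CommRing R] [Field F] [Finite F] [Subsingleton (R →+* F)] (s : ℕ) :
    Finite (MvPolynomial (Fin s) R →+* F) ∧ Nat.card (MvPolynomial (Fin s) R →+* F) ≤ Nat.card F ^ s := by
  have hinj : Function.Injective (fun (ψ : MvPolynomial (Fin s) R →+* F) j => ψ (MvPolynomial.X j)) :=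
    fun ψ₁ ψ₂ h => MvPolynomial.ringHom_ext
      (fun r => RingHom.congr_fun (Subsingleton.elim (ψ₁.comp MvPolynomial.C) (ψ₂.comp MvPolynomial.C)) r)
      (fun j => congrFun h j)
  refine ⟨Finite.of_injective _ hinj, (Nat.card_le_card_of_injective _ hinj).trans_eq ?_⟩
  simp [Nat.card_pi]

theorem natCast_eq_zero_of_card {F : Type*} [Field F] {p m : ℕ} (hp : p.Prime) (hm : m ≠ 0)
    (h : Nat.card F = p ^ m) : CharP F p := by
  have : Finite F := Nat.finite_of_card_ne_zero (h ▸ pow_ne_zero _ hp.ne_zero)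
  have := Fintype.ofFinite F
  refine (CharP.charP_iff_prime_eq_zero hp).mpr (eq_zero_of_pow_eq_zero (n := m) ?_)
  rw [← Nat.cast_pow, ← h, Nat.card_eq_fintype_card, Nat.cast_card_eq_zero]

theorem finiteType_quot {A : Type*} [CommRing A] [Algebra.FiniteType ℤ A] (I : Ideal A) :
    Algebra.FiniteType ℤ (A ⧸ I) :=
  Algebra.FiniteType.of_surjective (Ideal.Quotient.mk I).toIntAlgHom Ideal.Quotient.mk_surjective

theorem finiteType_quot' {A : Type*} [CommRing A] [Algebra.FiniteType ℤ A] (I : Ideal A) :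
    @Algebra.FiniteType ℤ (A ⧸ I) _ _ (Ring.toIntAlgebra (A ⧸ I)) := finiteType_quot I

/-- A single characteristic. -/
theorem exists_bound_prime (A : Type*) [CommRing A] [Algebra.FiniteType ℤ A] {r : ℕ} (hr : ringKrullDim A ≤ r)
    {p : ℕ} (hp : p.Prime) :
    ∃ N : ℕ, ∀ (F : Type w) [Field F] [Finite F], CharP F p → Nat.card (A →+* F) ≤ N * Nat.card F ^ r := by
  classical
  let I : Ideal A := Ideal.span {(p : A)}
  let q := Ideal.Quotient.mk I
  have hfac : ∀ {F : Type _} [Field F] [CharP F p] (ψ : A →+* F), ∀ x ∈ I, ψ x = 0 := by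
    intro F _ _ ψ x hx
    obtain ⟨y, rfl⟩ := Ideal.mem_span_singleton'.mp hx
    rw [map_mul, map_natCast, CharP.cast_eq_zero, mul_zero]
  by_cases htop : I = ⊤
  · refine ⟨0, fun F _ _ hF => ?_⟩
    have : IsEmpty (A →+* F) := ⟨fun ψ => by
      have := hfac ψ 1 (htop ▸ trivial)
      simp at this⟩
    simp
  have : Nontrivial (A ⧸ I) := Ideal.Quotient.nontrivial_iff.mpr htop
  have : Fact p.Prime := ⟨hp⟩
  have hchar : CharP (A ⧸ I) p := by
    refine (CharP.charP_iff_prime_eq_zero hp).mpr ?_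
    rw [← map_natCast q]
    exact Ideal.Quotient.eq_zero_iff_mem.mpr (Ideal.mem_span_singleton_self _)
  let alg : Algebra (ZMod p) (A ⧸ I) := ZMod.algebra (A ⧸ I) p
  have hftZ : Algebra.FiniteType ℤ (A ⧸ I) := finiteType_quot I
  have hft : Algebra.FiniteType (ZMod p) (A ⧸ I) := Algebra.FiniteType.of_restrictScalars_finiteType ℤ (ZMod p) (A ⧸ I)
  obtain ⟨s, g, hg, hfin⟩ := exists_finite_inj_algHom_of_fg (k := ZMod p) (R := A ⧸ I)
  let algB : Algebra (MvPolynomial (Fin s) (ZMod p)) (A ⧸ I) := g.toRingHom.toAlgebra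
  have hB : Module.Finite (MvPolynomial (Fin s) (ZMod p)) (A ⧸ I) := hfin
  have hs : s ≤ r := by
    have h1 := ringKrullDim_eq_of_isIntegral (R := MvPolynomial (Fin s) (ZMod p)) (S := A ⧸ I) hg
    rw [MvPolynomial.ringKrullDim_of_isNoetherianRing, ringKrullDim_eq_zero_of_field, zero_add] at h1
    have h2 := (ringKrullDim_le_of_surjective q Ideal.Quotient.mk_surjective).trans hr
    rw [← h1, Nat.card_fin] at h2
    exact_mod_cast h2
  obtain ⟨S, hS⟩ := hB.fg_top
  have hint : ∀ l : S, IsIntegral (MvPolynomial (Fin s) (ZMod p)) (l.1 : A ⧸ I) := fun l => Algebra.IsIntegral.isIntegral _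
  choose f hmon hroot using hint
  refine ⟨∏ l, (f l).natDegree, fun F _ _ hF => ?_⟩
  have h1 : Nat.card (A →+* F) ≤ Nat.card (A ⧸ I →+* F) := by
    have := @finite_ringHom (A ⧸ I) _ (finiteType_quot' I) F _ _
    refine Nat.card_le_card_of_injective (fun ψ => Ideal.Quotient.lift I ψ (hfac ψ)) fun ψ₁ ψ₂ h => ?_
    exact RingHom.ext fun x => RingHom.congr_fun h (q x)
  obtain ⟨hfinB, hcardB⟩ := card_ringHom_mvPolynomial_le (R := ZMod p) (F := F) s
  have hgen : Subring.closure (Set.range g.toRingHom ∪ Set.range fun l : S => (l.1 : A ⧸ I)) = ⊤ := by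
    rw [eq_top_iff]
    rintro x -
    have hx : x ∈ Submodule.span (MvPolynomial (Fin s) (ZMod p)) (S : Set (A ⧸ I)) := by rw [hS]; trivial
    induction hx using Submodule.span_induction with
    | mem y hy => exact Subring.subset_closure (Or.inr ⟨⟨y, hy⟩, rfl⟩)
    | zero => exact Subring.zero_mem _
    | add y z _ _ hy hz => exact Subring.add_mem _ hy hz
    | smul b y _ hy => exact Subring.mul_mem _ (Subring.subset_closure (Or.inl ⟨b, rfl⟩)) hy
  refine h1.trans ((card_ringHom_le g.toRingHom (fun l : S => (l.1 : A ⧸ I)) hgen f hroot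
    fun ψ l => ((hmon l).map _).ne_zero).trans ?_)
  rw [mul_comm]
  exact Nat.mul_le_mul_left _ (hcardB.trans (Nat.pow_le_pow_right Nat.card_pos hs))

open MvPolynomial in
theorem exists_clear_denom {σ : Type*} (c : MvPolynomial σ ℚ) :
    ∃ M : ℕ, M ≠ 0 ∧ ∀ N, M ∣ N → ∃ d : MvPolynomial σ ℤ, map (Int.castRingHom ℚ) d = C (N : ℚ) * c := by
  induction c using MvPolynomial.induction_on' with
  | monomial u a =>
    refine ⟨a.den, a.den_nz, fun N hN => ?_⟩
    obtain ⟨k, rfl⟩ := hN
    refine ⟨monomial u (k * a.num), ?_⟩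
    rw [map_monomial, C_mul_monomial]
    congr 1
    push_cast
    have := Rat.num_div_den a
    field_simp at this
    simp only [eq_intCast, Int.cast_mul, Int.cast_natCast]
    linear_combination (k : ℚ) * this
  | add p q hp hq =>
    obtain ⟨M, hM, hM'⟩ := hp; obtain ⟨M', hM0, hM''⟩ := hq
    refine ⟨M * M', mul_ne_zero hM hM0, fun N hN => ?_⟩
    obtain ⟨d, hd⟩ := hM' N (dvd_trans (dvd_mul_right _ _) hN)
    obtain ⟨d', hd'⟩ := hM'' N (dvd_trans (dvd_mul_left _ _) hN)
    exact ⟨d + d', by rw [map_add, hd, hd', mul_add]⟩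

/-- The generic fibre: characteristic zero domains. -/
theorem exists_bound_generic (A : Type*) [CommRing A] [IsDomain A] [CharZero A] [Algebra.FiniteType ℤ A] {r : ℕ}
    (hr : ringKrullDim A ≤ r) :
    ∃ (N M s : ℕ), M ≠ 0 ∧ s + 1 ≤ r ∧ ∀ (F : Type w) [Field F] [Finite F], (M : F) ≠ 0 →
      Nat.card (A →+* F) ≤ N * Nat.card F ^ s := by
  classical
  obtain ⟨S, hS⟩ := Algebra.FiniteType.out (R := ℤ) (A := A)
  let K := FractionRing A
  have : CharZero K := charZero_of_injective_algebraMap (IsFractionRing.injective A K)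
  let ι := algebraMap A K
  let AQ : Subalgebra ℚ K := Algebra.adjoin ℚ (ι '' (S : Set A))
  have hft : Algebra.FiniteType ℚ AQ := ⟨(Subalgebra.fg_top _).mpr ⟨S.image ι, by rw [Finset.coe_image]⟩⟩
  obtain ⟨s, g, hg, hgint⟩ := exists_integral_inj_algHom_of_fg (k := ℚ) (R := AQ)
  -- elements of the generic fibre have denominators
  have hden : ∀ z ∈ AQ, ∃ M : ℕ, M ≠ 0 ∧ ∀ N, M ∣ N → (N : K) * z ∈ ι.range := by
    intro z hz
    induction hz using Algebra.adjoin_induction with
    | mem x hx =>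
      obtain ⟨a, -, rfl⟩ := hx
      exact ⟨1, one_ne_zero, fun N _ => ⟨N * a, by simp [ι]⟩⟩
    | algebraMap c =>
      refine ⟨c.den, c.den_nz, fun N hN => ?_⟩
      obtain ⟨k, rfl⟩ := hN
      refine ⟨(k * c.num : ℤ), ?_⟩
      rw [map_intCast, eq_ratCast, Rat.cast_def]
      push_cast
      have hc : ((c.den * k : ℕ) : K) = (c.den : K) * (k : K) := Nat.cast_mul _ _
      have hc0 : (c.den : K) ≠ 0 := Nat.cast_ne_zero.mpr c.den_nz
      rw [hc]
      rw [mul_comm (c.den : K), mul_assoc, mul_div_cancel₀ _ hc0]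
    | add x y _ _ hx hy =>
      obtain ⟨M, hM, hM'⟩ := hx; obtain ⟨M', hM0, hM''⟩ := hy
      refine ⟨M * M', mul_ne_zero hM hM0, fun N hN => ?_⟩
      rw [mul_add]
      exact Subring.add_mem _ (hM' N (dvd_trans (dvd_mul_right _ _) hN)) (hM'' N (dvd_trans (dvd_mul_left _ _) hN))
    | mul x y _ _ hx hy =>
      obtain ⟨M, hM, hM'⟩ := hx; obtain ⟨M', hM0, hM''⟩ := hy
      refine ⟨M * M', mul_ne_zero hM hM0, fun N hN => ?_⟩
      obtain ⟨k, rfl⟩ := hN
      have hc : ∀ a b : ℕ, ((a * b : ℕ) : K) = (a : K) * (b : K) := fun a b => Nat.cast_mul a b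
      simp only [hc]
      have := Subring.mul_mem _ (hM' (M * k) (dvd_mul_right _ _)) (hM'' M' dvd_rfl)
      simp only [hc] at this
      rwa [show (M : K) * M' * k * (x * y) = (M : K) * k * x * ((M' : K) * y) by ring]
  choose MX hMX0 hMX using fun j => hden _ (g (MvPolynomial.X j)).2
  set M₀ := ∏ j, MX j with hM₀
  have hM₀0 : (M₀ : ℚ) ≠ 0 := Nat.cast_ne_zero.mpr (Finset.prod_ne_zero_iff.mpr fun j _ => hMX0 j)
  choose y hy using fun j => hMX j M₀ (Finset.dvd_prod_of_mem MX (Finset.mem_univ j))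
  -- the scaled parameters
  let sc : MvPolynomial (Fin s) ℚ →ₐ[ℚ] MvPolynomial (Fin s) ℚ :=
    MvPolynomial.aeval fun j => MvPolynomial.C (M₀ : ℚ) * MvPolynomial.X j
  let sc' : MvPolynomial (Fin s) ℚ →ₐ[ℚ] MvPolynomial (Fin s) ℚ :=
    MvPolynomial.aeval fun j => MvPolynomial.C (M₀ : ℚ)⁻¹ * MvPolynomial.X j
  have hsc : ∀ p, sc (sc' p) = p := fun p => by
    refine AlgHom.congr_fun (?_ : sc.comp sc' = AlgHom.id ℚ _) p
    ext1 j
    simp only [sc, sc', AlgHom.comp_apply, MvPolynomial.aeval_X, map_mul, MvPolynomial.aeval_C,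
      MvPolynomial.algebraMap_eq, AlgHom.id_apply]
    rw [← mul_assoc, ← map_mul, inv_mul_cancel₀ hM₀0, map_one, one_mul]
  have hsc'inj : Function.Injective sc := fun p q h => by
    have h2 : ∀ p, sc' (sc p) = p := fun p => by
      refine AlgHom.congr_fun (?_ : sc'.comp sc = AlgHom.id ℚ _) p
      ext1 j
      simp only [sc, sc', AlgHom.comp_apply, MvPolynomial.aeval_X, map_mul, MvPolynomial.aeval_C,
        MvPolynomial.algebraMap_eq, AlgHom.id_apply]
      rw [← mul_assoc, ← map_mul, mul_inv_cancel₀ hM₀0, map_one, one_mul]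
    rw [← h2 p, h, h2]
  let gQ : MvPolynomial (Fin s) ℚ →ₐ[ℚ] K := AQ.val.comp (g.comp sc)
  have hgQinj : Function.Injective gQ := Subtype.val_injective.comp (hg.comp hsc'inj)
  have hgQX : ∀ j, gQ (MvPolynomial.X j) = ι (y j) := fun j => by
    rw [hy j]
    simp [gQ, sc]
  let i : MvPolynomial (Fin s) ℤ →+* A := (MvPolynomial.aeval y : MvPolynomial (Fin s) ℤ →ₐ[ℤ] A).toRingHom
  have hi : ∀ p, ι (i p) = gQ (MvPolynomial.map (Int.castRingHom ℚ) p) := fun p => by
    refine RingHom.congr_fun (?_ : ι.comp i = gQ.toRingHom.comp (MvPolynomial.map (Int.castRingHom ℚ))) p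
    refine MvPolynomial.ringHom_ext (fun c => by simp [i]) fun j => ?_
    simp [i, hgQX]
  -- integral relations with constant leading coefficient
  have hrel : ∀ a : S, ∃ (P : Polynomial (MvPolynomial (Fin s) ℤ)) (m : ℕ), m ≠ 0 ∧
      P.leadingCoeff = (m : MvPolynomial (Fin s) ℤ) ∧ P.eval₂ i a.1 = 0 := by
    intro a
    have hmem : ι a.1 ∈ AQ := Algebra.subset_adjoin ⟨a.1, a.2, rfl⟩
    obtain ⟨q, hq, hq0⟩ := hgint ⟨ι a.1, hmem⟩
    set q' := q.map sc'.toRingHom with hq'def
    have hq' : q'.Monic := hq.map _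
    have hq'0 : q'.eval₂ gQ.toRingHom (ι a.1) = 0 := by
      rw [hq'def, Polynomial.eval₂_map,
        show gQ.toRingHom.comp sc'.toRingHom = AQ.val.toRingHom.comp g.toRingHom from
          RingHom.ext fun p => by simp [gQ, hsc]]
      have := congrArg AQ.val hq0
      rw [map_zero] at this
      exact (Polynomial.hom_eval₂ q g.toRingHom AQ.val.toRingHom ⟨ι a.1, hmem⟩).symm.trans this
    choose Mc hMc0 hMc using fun n => exists_clear_denom (q'.coeff n)
    set m := ∏ n ∈ q'.support, Mc n
    have hlift : Polynomial.C (MvPolynomial.C (m : ℚ)) * q' ∈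
        Polynomial.lifts (MvPolynomial.map (Int.castRingHom ℚ) : MvPolynomial (Fin s) ℤ →+* _) := by
      rw [Polynomial.lifts_iff_coeff_lifts]
      intro n
      rw [Polynomial.coeff_C_mul]
      by_cases hn : n ∈ q'.support
      · exact hMc n m (Finset.dvd_prod_of_mem Mc hn)
      · exact ⟨0, by rw [Polynomial.notMem_support_iff.mp hn, map_zero, mul_zero]⟩
    obtain ⟨P, hP⟩ := (Polynomial.mem_lifts _).mp hlift
    refine ⟨P, m, Finset.prod_ne_zero_iff.mpr fun n _ => hMc0 n, ?_, ?_⟩
    · have hinj : Function.Injective (MvPolynomial.map (Int.castRingHom ℚ) : MvPolynomial (Fin s) ℤ →+* _) :=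
        MvPolynomial.map_injective _ Int.cast_injective
      apply hinj
      rw [← Polynomial.leadingCoeff_map_of_injective hinj, hP, Polynomial.leadingCoeff_mul,
        Polynomial.leadingCoeff_C, hq', mul_one, map_natCast, map_natCast]
    · apply IsFractionRing.injective A K
      rw [map_zero, Polynomial.hom_eval₂, show (algebraMap A K).comp i =
        gQ.toRingHom.comp (MvPolynomial.map (Int.castRingHom ℚ)) from RingHom.ext hi,
        ← Polynomial.eval₂_map, hP, Polynomial.eval₂_mul, hq'0, mul_zero]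
  choose P m hm hlead hroot using hrel
  set M := ∏ a, m a with hM
  have hM0 : M ≠ 0 := Finset.prod_ne_zero_iff.mpr fun a _ => hm a
  refine ⟨∏ a, (P a).natDegree, M, s, hM0, ?_, fun F _ _ hF => ?_⟩
  · -- the dimension
    let R : Subalgebra ℤ ℚ := Algebra.adjoin ℤ {(M : ℚ)⁻¹}
    have hRden : ∀ z ∈ R, ∃ n : ℕ, ∃ c : ℤ, (M : ℚ) ^ n * z = c := by
      intro z hz
      induction hz using Algebra.adjoin_induction with
      | mem x hx =>
        refine ⟨1, 1, ?_⟩
        rw [Set.mem_singleton_iff.mp hx, pow_one, mul_inv_cancel₀ (Nat.cast_ne_zero.mpr hM0)]; simp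
      | algebraMap c => exact ⟨0, c, by simp⟩
      | add x x' _ _ hx hx' =>
        obtain ⟨n, c, hc⟩ := hx; obtain ⟨n', c', hc'⟩ := hx'
        refine ⟨n + n', (M : ℤ) ^ n' * c + (M : ℤ) ^ n * c', ?_⟩
        push_cast; rw [← hc, ← hc', pow_add]; ring
      | mul x x' _ _ hx hx' =>
        obtain ⟨n, c, hc⟩ := hx; obtain ⟨n', c', hc'⟩ := hx'
        exact ⟨n + n', c * c', by push_cast; rw [← hc, ← hc', pow_add]; ring⟩
    have hR : ¬ IsField R := by
      intro hf
      obtain ⟨p, hpM, hp⟩ := Nat.exists_infinite_primes (M + 1)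
      obtain ⟨b, hb⟩ := hf.mul_inv_cancel (a := (p : R)) (Nat.cast_ne_zero.mpr hp.ne_zero)
      obtain ⟨n, c, hc⟩ := hRden b.1 b.2
      have hb' : (p : ℚ) * b.1 = 1 := by have := congrArg Subtype.val hb; simpa using this
      have : ((M : ℤ) ^ n : ℚ) = (p : ℚ) * c := by
        rw [← hc]; push_cast; linear_combination -(M : ℚ) ^ n * hb'
      have h2 : (p : ℤ) ∣ (M : ℤ) ^ n := ⟨c, by exact_mod_cast this⟩
      have h3 : p ∣ M ^ n := by exact_mod_cast h2
      have := Nat.le_of_dvd (Nat.pos_of_ne_zero hM0) (hp.dvd_of_dvd_pow h3)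
      omega
    have hdimR : (1 : WithBot ℕ∞) ≤ ringKrullDim R := by
      by_contra hlt
      push Not at hlt
      refine hR ?_
      have hle : ringKrullDim R ≤ 0 := by
        have h0 : 0 ≤ ringKrullDim R := ringKrullDim_nonneg_of_nontrivial
        obtain ⟨d, hd⟩ := WithBot.ne_bot_iff_exists.mp (ne_bot_of_le_ne_bot WithBot.zero_ne_bot h0)
        rw [← hd, ← WithBot.coe_one, WithBot.coe_lt_coe, ENat.lt_one_iff_eq_zero] at hlt
        rw [← hd, hlt]; rfl
      have : Ring.KrullDimLE 0 R := (Ring.krullDimLE_iff).mpr (by simpa using hle)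
      exact Ring.KrullDimLE.isField_of_isDomain
    let gR : MvPolynomial (Fin s) R →+* K := gQ.toRingHom.comp (MvPolynomial.map R.val.toRingHom)
    let alg : Algebra (MvPolynomial (Fin s) R) K := gR.toAlgebra
    let C : Subalgebra (MvPolynomial (Fin s) R) K := Algebra.adjoin _ (ι '' (S : Set A))
    have hCint : Algebra.IsIntegral (MvPolynomial (Fin s) R) C := by
      refine Algebra.IsIntegral.adjoin ?_
      rintro _ ⟨a, ha, rfl⟩
      let u : R := ⟨((M : ℚ)⁻¹ * (∏ b ∈ Finset.univ.erase (⟨a, ha⟩ : S), (m b : ℚ))),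
        R.mul_mem (Algebra.subset_adjoin rfl) (Subalgebra.prod_mem _ fun b _ => Subalgebra.natCast_mem _ _)⟩
      set q := Polynomial.C (MvPolynomial.C u) *
        (P ⟨a, ha⟩).map (MvPolynomial.map (algebraMap ℤ R) : MvPolynomial (Fin s) ℤ →+* MvPolynomial (Fin s) R)
      have hinj : Function.Injective (MvPolynomial.map (algebraMap ℤ R) : MvPolynomial (Fin s) ℤ →+* MvPolynomial (Fin s) R) :=
        MvPolynomial.map_injective _ (algebraMap ℤ R).injective_int
      refine ⟨q, ?_, ?_⟩
      · rw [Polynomial.Monic, Polynomial.leadingCoeff_mul, Polynomial.leadingCoeff_C,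
          Polynomial.leadingCoeff_map_of_injective hinj, hlead, map_natCast, ← map_natCast MvPolynomial.C, ← map_mul]
        rw [← map_one MvPolynomial.C]
        congr 1
        apply Subtype.ext
        have : (M : ℚ) = (m ⟨a, ha⟩ : ℚ) * ∏ b ∈ Finset.univ.erase (⟨a, ha⟩ : S), (m b : ℚ) := by
          rw [hM, Nat.cast_prod, ← Finset.mul_prod_erase _ _ (Finset.mem_univ (⟨a, ha⟩ : S))]
        simp only [u, MulMemClass.coe_mul, OneMemClass.coe_one]
        have hMQ : (M : ℚ) ≠ 0 := Nat.cast_ne_zero.mpr hM0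
        push_cast
        field_simp
        linear_combination -this
      · rw [Polynomial.eval₂_mul, Polynomial.eval₂_map,
          show (algebraMap (MvPolynomial (Fin s) R) K).comp (MvPolynomial.map (algebraMap ℤ R)) = ι.comp i from
            RingHom.ext fun p => by
              rw [RingHom.comp_apply, RingHom.comp_apply, hi]
              change gQ (MvPolynomial.map R.val.toRingHom (MvPolynomial.map (algebraMap ℤ R) p)) = _
              rw [MvPolynomial.map_map]
              congr 2,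
          ← Polynomial.hom_eval₂, hroot ⟨a, ha⟩, map_zero, mul_zero]
    have hinjC : Function.Injective (algebraMap (MvPolynomial (Fin s) R) C) := fun a b hab => by
      have h' : gQ (MvPolynomial.map R.val.toRingHom a) = gQ (MvPolynomial.map R.val.toRingHom b) :=
        congrArg (fun z : C => (z : K)) hab
      exact MvPolynomial.map_injective R.val.toRingHom Subtype.val_injective (hgQinj h')
    have hιC : ∀ a, ι a ∈ C := fun a => by
      have ha : a ∈ Algebra.adjoin ℤ (S : Set A) := hS ▸ trivial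
      induction ha using Algebra.adjoin_induction with
      | mem x hx => exact Algebra.subset_adjoin ⟨x, hx, rfl⟩
      | algebraMap c => rw [eq_intCast, map_intCast]; exact intCast_mem C c
      | add x y _ _ hx hy => rw [map_add]; exact C.add_mem hx hy
      | mul x y _ _ hx hy => rw [map_mul]; exact C.mul_mem hx hy
    let j : A →+* C := ι.codRestrict C hιC
    have hMK : (M : K) ≠ 0 := Nat.cast_ne_zero.mpr hM0
    have hCden : ∀ c ∈ C, ∃ n : ℕ, (M : K) ^ n * c ∈ ι.range := by
      intro c hc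
      induction hc using Algebra.adjoin_induction with
      | mem x hx => obtain ⟨a, -, rfl⟩ := hx; exact ⟨0, a, by simp⟩
      | algebraMap p =>
        induction p using MvPolynomial.induction_on with
        | C r =>
          obtain ⟨n, c, hc⟩ := hRden r.1 r.2
          refine ⟨n, (c : A), ?_⟩
          change ι c = _ * gQ (MvPolynomial.map R.val.toRingHom (MvPolynomial.C r))
          rw [MvPolynomial.map_C, map_intCast, show gQ (MvPolynomial.C (R.val.toRingHom r)) = ((r.1 : ℚ) : K) by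
            rw [← MvPolynomial.algebraMap_eq, AlgHom.commutes]; simp]
          have := congrArg (fun z : ℚ => (z : K)) hc
          push_cast at this
          exact this.symm
        | add p q hp hq =>
          obtain ⟨n, a, ha⟩ := hp; obtain ⟨n', a', ha'⟩ := hq
          refine ⟨n + n', (M : A) ^ n' * a + (M : A) ^ n * a', ?_⟩
          simp only [map_add, map_mul, map_pow, map_natCast, ha, ha', pow_add]; ring
        | mul_X p l hp =>
          obtain ⟨n, a, ha⟩ := hp
          refine ⟨n, a * y l, ?_⟩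
          rw [map_mul, map_mul, ha, ← mul_assoc]
          congr 1
          change ι (y l) = gQ (MvPolynomial.map _ (MvPolynomial.X l))
          rw [MvPolynomial.map_X, hgQX]
      | add x x' _ _ hx hx' =>
        obtain ⟨n, a, ha⟩ := hx; obtain ⟨n', a', ha'⟩ := hx'
        refine ⟨n + n', (M : A) ^ n' * a + (M : A) ^ n * a', ?_⟩
        simp only [map_add, map_mul, map_pow, map_natCast, ha, ha', pow_add]; ring
      | mul x x' _ _ hx hx' =>
        obtain ⟨n, a, ha⟩ := hx; obtain ⟨n', a', ha'⟩ := hx'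
        refine ⟨n + n', a * a', ?_⟩
        rw [map_mul, ha, ha', pow_add]; ring
    have hmono : StrictMono (PrimeSpectrum.comap j) := by
      intro Q₁ Q₂ hlt
      refine lt_of_le_of_ne (fun x hx => hlt.le hx) fun e => hlt.ne (PrimeSpectrum.ext (le_antisymm hlt.le ?_))
      intro c hc
      obtain ⟨n, a, ha⟩ := hCden c.1 c.2
      have hja : j a = (M : C) ^ n * c := Subtype.ext (by simpa [j] using ha)
      have ha2 : a ∈ (PrimeSpectrum.comap j Q₂).asIdeal := by
        change j a ∈ Q₂.asIdeal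
        rw [hja]; exact Ideal.mul_mem_left _ _ hc
      rw [← e] at ha2
      change j a ∈ Q₁.asIdeal at ha2
      rw [hja] at ha2
      refine (Q₁.isPrime.mem_or_mem ha2).resolve_left fun hMn => Q₁.isPrime.ne_top ?_
      have hMC : IsUnit ((M : C)) := by
        refine isUnit_iff_exists_inv.mpr ⟨algebraMap (MvPolynomial (Fin s) R) C (MvPolynomial.C ⟨(M : ℚ)⁻¹, Algebra.subset_adjoin rfl⟩), Subtype.ext ?_⟩
        simp only [MulMemClass.coe_mul, OneMemClass.coe_one]
        change ((M : C) : K) * gQ (MvPolynomial.map R.val.toRingHom (MvPolynomial.C _)) = 1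
        rw [MvPolynomial.map_C, ← MvPolynomial.algebraMap_eq, AlgHom.commutes]
        simp [hMK]
      exact Ideal.eq_top_of_isUnit_mem _ (Q₁.isPrime.mem_of_pow_mem n hMn) hMC
    have h1 : ringKrullDim C ≤ ringKrullDim A := Order.krullDim_le_of_strictMono _ hmono
    rw [← ringKrullDim_eq_of_isIntegral (R := MvPolynomial (Fin s) R) (S := C) hinjC] at h1
    have h2 : ringKrullDim R + (s : ℕ) ≤ ringKrullDim (MvPolynomial (Fin s) R) := by
      simpa using ringKrullDim_add_natCard_le_ringKrullDim_mvPolynomial (R := R) (Fin s)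
    have h3 : (1 : WithBot ℕ∞) + (s : ℕ) ≤ (r : ℕ) := ((add_le_add_left hdimR _).trans h2).trans (h1.trans hr)
    have h4 : ((1 + s : ℕ) : WithBot ℕ∞) ≤ (r : ℕ) := by push_cast; exact h3
    have := Nat.cast_le.mp h4
    omega
  · obtain ⟨hfinB, hcardB⟩ := card_ringHom_mvPolynomial_le (R := ℤ) (F := F) s
    have hgen : Subring.closure (Set.range i ∪ Set.range fun a : S => (a.1 : A)) = ⊤ := by
      rw [eq_top_iff]
      rintro x -
      have hx : x ∈ Algebra.adjoin ℤ (S : Set A) := hS ▸ trivial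
      induction hx using Algebra.adjoin_induction with
      | mem z hz => exact Subring.subset_closure (Or.inr ⟨⟨z, hz⟩, rfl⟩)
      | algebraMap c => exact intCast_mem _ c
      | add a b _ _ ha hb => exact Subring.add_mem _ ha hb
      | mul a b _ _ ha hb => exact Subring.mul_mem _ ha hb
    refine (card_ringHom_le i (fun a : S => (a.1 : A)) hgen P hroot fun ψ a h0 => ?_).trans
      ((Nat.mul_le_mul_right _ hcardB).trans_eq (mul_comm _ _))
    have := congrArg (fun q => Polynomial.coeff q (P a).natDegree) h0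
    simp only [Polynomial.coeff_map, Polynomial.coeff_zero] at this
    change (ψ.comp i) (P a).leadingCoeff = 0 at this
    rw [hlead, map_natCast] at this
    apply hF
    rw [hM, Nat.cast_prod]
    exact Finset.prod_eq_zero (Finset.mem_univ a) this

/-- Uniform bound for a finitely generated ring. -/
theorem exists_bound (A : Type*) [CommRing A] [Algebra.FiniteType ℤ A] {r : ℕ} (hr : ringKrullDim A ≤ r) :
    ∃ (N p₀ : ℕ), ∀ p₁, p₀ ≤ p₁ → ∀ (p : ℕ), p.Prime → ∀ (F : Type w) [Field F] [Finite F], CharP F p →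
      p₁ ≤ p → (Nat.card (A →+* F) : ℝ) ≤ (N : ℝ) * (Nat.card F : ℝ) ^ ((r : ℝ) - 1) := by
  classical
  have : IsNoetherianRing A := Algebra.FiniteType.isNoetherianRing ℤ A
  have hfinite := (minimalPrimes.finite_of_isNoetherianRing A).to_subtype
  have := Fintype.ofFinite (minimalPrimes A)
  have hbound : ∀ P : minimalPrimes A, ∃ (N p₀ : ℕ), ∀ (p : ℕ), p.Prime → p₀ ≤ p → ∀ (F : Type w) [Field F]
      [Finite F], CharP F p → (Nat.card ((A ⧸ P.1) →+* F) : ℝ) ≤ (N : ℝ) * (Nat.card F : ℝ) ^ ((r : ℝ) - 1) := by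
    intro P
    have : P.1.IsPrime := Ideal.minimalPrimes_isPrime P.2
    have := finiteType_quot' P.1
    by_cases hz : CharZero (A ⧸ P.1)
    · obtain ⟨N, M, s, hM, hs, h⟩ := @exists_bound_generic (A ⧸ P.1) _ _ hz (finiteType_quot' P.1) r
        ((ringKrullDim_le_of_surjective _ Ideal.Quotient.mk_surjective).trans hr)
      refine ⟨N, M + 1, fun p hp hpM F _ _ hF => ?_⟩
      have hMF : (M : F) ≠ 0 := fun e => by
        have := Nat.le_of_dvd (Nat.pos_of_ne_zero hM) ((CharP.cast_eq_zero_iff F p M).mp e)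
        omega
      refine (Nat.cast_le.mpr (h F hMF)).trans ?_
      push_cast
      refine mul_le_mul_of_nonneg_left ?_ (Nat.cast_nonneg _)
      rw [← Real.rpow_natCast]
      refine Real.rpow_le_rpow_of_exponent_le (by exact_mod_cast Nat.card_pos) ?_
      have : (s : ℝ) + 1 ≤ r := by exact_mod_cast hs
      linarith
    · obtain ⟨q, hq⟩ := CharP.exists (A ⧸ P.1)
      have hq0 : q ≠ 0 := fun e => hz (by subst e; exact CharP.charP_to_charZero _)
      refine ⟨0, q + 1, fun p hp hpq F _ _ hF => ?_⟩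
      have : IsEmpty ((A ⧸ P.1) →+* F) := ⟨fun ψ => by
        have h0 : (q : F) = 0 := by rw [← map_natCast ψ, CharP.cast_eq_zero, map_zero]
        have := Nat.le_of_dvd (Nat.pos_of_ne_zero hq0) ((CharP.cast_eq_zero_iff F p q).mp h0)
        omega⟩
      simp
  choose N p₀ h using hbound
  refine ⟨∑ P, N P, ∑ P, p₀ P, fun p₁ hp₁ p hp F _ _ hF hp₁p => ?_⟩
  have hfin := fun P : minimalPrimes A => @finite_ringHom (A ⧸ P.1) _ (finiteType_quot' P.1) F _ _
  have hsurj : Function.Surjective fun x : Σ P : minimalPrimes A, (A ⧸ P.1) →+* F =>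
      x.2.comp (Ideal.Quotient.mk x.1.1) := by
    intro ψ
    have : (RingHom.ker ψ).IsPrime := RingHom.ker_isPrime ψ
    obtain ⟨P, hP, hle⟩ := Ideal.exists_minimalPrimes_le (bot_le : (⊥ : Ideal A) ≤ RingHom.ker ψ)
    exact ⟨⟨⟨P, hP⟩, Ideal.Quotient.lift P ψ fun x hx => hle hx⟩, Ideal.Quotient.lift_comp_mk _ _ _⟩
  refine (Nat.cast_le.mpr ((Nat.card_le_card_of_surjective _ hsurj).trans_eq Nat.card_sigma)).trans ?_
  push_cast
  rw [Finset.sum_mul]
  refine Finset.sum_le_sum fun P _ => h P p hp ?_ F hF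
  exact le_trans (Finset.single_le_sum (fun Q _ => Nat.zero_le (p₀ Q)) (Finset.mem_univ P)) (hp₁.trans hp₁p)

end Groth.Agent.ZetaLib
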