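import Groth.Agent.WeilLib.Counting
import Groth.Agent.WeilLib.StalkMaps
import Groth.Prelude.Def_SgaExt
import Mathlib.FieldTheory.Finite.GaloisField
import Mathlib.FieldTheory.Finite.Extension
import Mathlib.RingTheory.FiniteType
import Mathlib.Algebra.Field.ULift

/-! Rational points over finite extensions and closed points by degree. -/

universe u

open CategoryTheory AlgebraicGeometry

namespace Groth.Agent.ZetaLib

open Groth.Agent.DimLib Groth.Agent.WeilLib

variable {k : Type u} [Field k] {X : Scheme.{u}} (f : X ⟶ Spec (CommRingCat.of k))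

/-- Rational points over an extension. -/
def Pts (k' : Type u) [Field k'] [Algebra k k'] : Type u :=
  { g : Spec (CommRingCat.of k') ⟶ X // g ≫ f = Spec.map (CommRingCat.ofHom (algebraMap k k')) }

theorem finite_pts_affine {U : Scheme.{u}} [IsAffine U] (g : U ⟶ Spec (CommRingCat.of k)) [LocallyOfFiniteType g]
    (k' : Type u) [Field k'] [Algebra k k'] [Finite k'] : Finite (Pts g k') := by
  classical
  let φ : k →+* Γ(U, ⊤) := ((Scheme.ΓSpecIso (CommRingCat.of k)).inv ≫ g.appTop).hom
  have hφ : φ.FiniteType := by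
    refine RingHom.FiniteType.comp ?_ (RingHom.FiniteType.of_surjective _
      (Scheme.ΓSpecIso (CommRingCat.of k)).commRingCatIsoToRingEquiv.symm.surjective)
    exact (HasRingHomProperty.iff_of_isAffine (P := @LocallyOfFiniteType)).1 ‹_›
  letI := φ.toAlgebra
  have : Algebra.FiniteType k Γ(U, ⊤) := hφ
  obtain ⟨s, hs⟩ := Algebra.FiniteType.out (R := k) (A := Γ(U, ⊤))
  let toHom : Pts g k' → Γ(U, ⊤) →ₐ[k] k' := fun h =>
    { toRingHom := (h.1.appTop ≫ (Scheme.ΓSpecIso (CommRingCat.of k')).hom).hom
      commutes' := fun c => by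
        have e := congrArg (fun m => (Scheme.ΓSpecIso (CommRingCat.of k)).inv ≫ Scheme.Hom.appTop m ≫
          (Scheme.ΓSpecIso (CommRingCat.of k')).hom) h.2
        simp only [Scheme.Hom.comp_appTop, Category.assoc, Scheme.ΓSpecIso_naturality,
          Iso.inv_hom_id_assoc] at e
        exact RingHom.congr_fun (congrArg CommRingCat.Hom.hom e) c }
  refine Finite.of_injective (fun h (x : s) => toHom h x.1) fun h₁ h₂ e => Subtype.ext ?_
  refine ext_of_isAffine ((cancel_mono (Scheme.ΓSpecIso (CommRingCat.of k')).hom).1 ?_)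
  exact CommRingCat.hom_ext (congrArg AlgHom.toRingHom
    (AlgHom.ext_of_adjoin_eq_top hs (fun x hx => congrFun e ⟨x, hx⟩) : toHom h₁ = toHom h₂))

theorem finite_pts [LocallyOfFiniteType f] [QuasiCompact f] (k' : Type u) [Field k'] [Algebra k k'] [Finite k'] :
    Finite (Pts f k') := by
  have : CompactSpace X := QuasiCompact.compactSpace_of_compactSpace f
  let 𝒰 := X.affineCover.finiteSubcover
  have : ∀ j, IsAffine (𝒰.X j) := fun j =>
    show IsAffine (X.affineCover.X _) from inferInstance
  have : ∀ j, Finite (Pts (𝒰.f j ≫ f) k') := fun j => finite_pts_affine _ k'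
  refine Finite.of_surjective (fun σ : Σ j, Pts (𝒰.f j ≫ f) k' =>
    (⟨σ.2.1 ≫ 𝒰.f σ.1, by rw [Category.assoc]; exact σ.2.2⟩ : Pts f k')) fun g => ?_
  obtain ⟨j, y, hy⟩ := 𝒰.exists_eq (g.1 (IsLocalRing.closedPoint k'))
  refine ⟨⟨j, IsOpenImmersion.lift (𝒰.f j) g.1 ?_, ?_⟩, Subtype.ext (IsOpenImmersion.lift_fac _ _ _)⟩
  · rintro _ ⟨z, rfl⟩
    obtain rfl : z = IsLocalRing.closedPoint k' := Subsingleton.elim (α := PrimeSpectrum k') _ _
    exact ⟨y, hy⟩
  · rw [IsOpenImmersion.lift_fac_assoc]; exact g.2

theorem finite_residueField_of_ne_zero [Finite k] (x : X) (h : EGA4loc.residueDegree f x ≠ 0) :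
    Finite (X.residueField x) := by
  let := (baseRingHom f x).toAlgebra
  have h1 : EGA4loc.residueDegree f x = Module.finrank k (X.residueField x) := by
    rw [residueDegree_eq_rdeg]; rfl
  have := Module.finite_of_finrank_pos (R := k) (M := X.residueField x) (by omega)
  exact Module.finite_of_finite k

/-- Closed points of degree dividing `[k' : k]`, with an embedding of the residue field. -/
def PtData (k' : Type u) [Field k'] [Algebra k k'] (x : X) : Type u :=
  { φ : X.residueField x →+* k' // φ.comp (baseRingHom f x) = algebraMap k k' }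

theorem card_ptData [Finite k] (k' : Type u) [Field k'] [Algebra k k'] [Finite k'] (x : X)
    (hx : EGA4loc.residueDegree f x ∣ Module.finrank k k') :
    Nat.card (PtData f k' x) = EGA4loc.residueDegree f x := by
  let := (baseRingHom f x).toAlgebra
  let e : PtData f k' x ≃ (X.residueField x →ₐ[k] k') :=
    { toFun := fun φ => { toRingHom := φ.1, commutes' := fun c => RingHom.congr_fun φ.2 c }
      invFun := fun ψ => ⟨ψ.toRingHom, RingHom.ext ψ.commutes⟩
      left_inv := fun φ => rfl
      right_inv := fun ψ => rfl }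
  have h : EGA4loc.residueDegree f x = Module.finrank k (X.residueField x) := by
    rw [residueDegree_eq_rdeg]; rfl
  rw [Nat.card_congr e, h]
  exact FiniteField.natCard_algHom_of_finrank_dvd (h ▸ hx)

theorem ptData_dvd [Finite k] [LocallyOfFiniteType f] (k' : Type u) [Field k'] [Algebra k k'] [Finite k'] {x : X}
    (φ : PtData f k' x) : IsClosed ({x} : Set X) ∧ EGA4loc.residueDegree f x ∣ Module.finrank k k' := by
  let := (baseRingHom f x).toAlgebra
  have : Finite (X.residueField x) := Finite.of_injective φ.1 φ.1.injective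
  have hfin : Module.Finite k (X.residueField x) := Module.Finite.of_finite
  refine ⟨isClosed_of_finite f x hfin, ?_⟩
  rw [residueDegree_eq_rdeg]
  exact FiniteField.nonempty_algHom_iff_finrank_dvd.1
    ⟨{ toRingHom := φ.1, commutes' := fun c => RingHom.congr_fun φ.2 c }⟩

/-- Points correspond to residue field embeddings. -/
noncomputable def ptsEquiv (k' : Type u) [Field k'] [Algebra k k'] :
    (Σ x : X, PtData f k' x) ≃ Pts f k' := by
  refine Equiv.ofBijective (fun σ => ⟨Spec.map (CommRingCat.ofHom σ.2.1) ≫ X.fromSpecResidueField σ.1, ?_⟩) ⟨?_, ?_⟩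
  · rw [Category.assoc, ← specMap_baseRingHom f σ.1, ← Spec.map_comp]
    exact congrArg (fun r => Spec.map (CommRingCat.ofHom r)) σ.2.2
  · rintro ⟨x, φ⟩ ⟨y, ψ⟩ h
    have h1 : Spec.map (CommRingCat.ofHom φ.1) ≫ X.fromSpecResidueField x =
        Spec.map (CommRingCat.ofHom ψ.1) ≫ X.fromSpecResidueField y := congrArg Subtype.val h
    have hxy : x = y := by
      have h2 := congrArg (fun g : Spec (CommRingCat.of k') ⟶ X => g (IsLocalRing.closedPoint k')) h1
      exact ((X.fromSpecResidueField_apply x _).symm.trans h2).trans (X.fromSpecResidueField_apply y _)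
    subst hxy
    have : φ = ψ := Subtype.ext (congrArg CommRingCat.Hom.hom (residue_hom_ext h1))
    rw [this]
  · rintro ⟨g, hg⟩
    obtain ⟨x, φ, hφ⟩ : ∃ (x : X) (φ : X.residueField x →+* k'),
        Spec.map (CommRingCat.ofHom φ) ≫ X.fromSpecResidueField x = g :=
      ⟨_, (X.descResidueField (Scheme.stalkClosedPointTo g)).hom,
        Scheme.descResidueField_stalkClosedPointTo_fromSpecResidueField k' X g⟩
    refine ⟨⟨x, φ, ?_⟩, Subtype.ext hφ⟩
    have hcomp : CommRingCat.ofHom (baseRingHom f x) ≫ CommRingCat.ofHom φ =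
        CommRingCat.ofHom (algebraMap k k') := ?_
    · exact congrArg CommRingCat.Hom.hom hcomp
    apply Spec.map_injective
    rw [Spec.map_comp, specMap_baseRingHom, ← Category.assoc, hφ]
    exact hg

/-- For `e ≥ 1` there are finitely many closed points of degree `e`. -/
theorem finite_degSet [Finite k] [LocallyOfFiniteType f] [QuasiCompact f] {e : ℕ} (he : e ≠ 0) :
    Finite { x : X // IsClosed ({x} : Set X) ∧ EGA4loc.residueDegree f x = e } := by
  obtain ⟨p, hp⟩ := CharP.exists k
  have : Fact p.Prime := ⟨CharP.char_is_prime k p⟩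
  have : NeZero e := ⟨he⟩
  let k' := ULift.{u} (FiniteField.Extension k p e)
  have hk' : Module.finrank k k' = e :=
    (ULift.moduleEquiv : k' ≃ₗ[k] FiniteField.Extension k p e).finrank_eq.trans
      (FiniteField.finrank_extension k p e)
  have := finite_pts f k'
  have := Finite.of_equiv _ (ptsEquiv f k').symm
  have hne : ∀ x : { x : X // IsClosed ({x} : Set X) ∧ EGA4loc.residueDegree f x = e },
      Nonempty (PtData f k' x.1) := fun x => by
    by_contra h
    rw [not_nonempty_iff] at h
    have := card_ptData f k' x.1 (by rw [x.2.2, hk'])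
    rw [Nat.card_of_isEmpty, x.2.2] at this
    exact he this.symm
  exact Finite.of_injective (fun x => (⟨x.1, (hne x).some⟩ : Σ x : X, PtData f k' x))
    fun a b h => Subtype.ext (congrArg Sigma.fst h)

theorem pointCount_eq [Finite k] [LocallyOfFiniteType f] [QuasiCompact f]
    (k' : Type u) [Field k'] [Algebra k k'] [Finite k'] :
    SgaExt.pointCount f k' = Zeta.nPts f (Module.finrank k k') := by
  classical
  have hpos : 0 < Module.finrank k k' := by
    have : Module.Finite k k' := Module.Finite.of_finite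
    exact Module.finrank_pos
  have := finite_pts f k'
  have hσ := Finite.of_equiv _ (ptsEquiv f k').symm
  let S := {x : X // IsClosed ({x} : Set X) ∧ EGA4loc.residueDegree f x ∣ Module.finrank k k'}
  let e : (Σ x : S, PtData f k' x.1) ≃ (Σ x : X, PtData f k' x) :=
    { toFun := fun σ => ⟨σ.1.1, σ.2⟩
      invFun := fun σ => ⟨⟨σ.1, ptData_dvd f k' σ.2⟩, σ.2⟩
      left_inv := fun σ => rfl
      right_inv := fun σ => rfl }
  have hσS := Finite.of_equiv _ e.symm
  have hne : ∀ x : S, Nonempty (PtData f k' x.1) := fun x => by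
    by_contra h
    rw [not_nonempty_iff] at h
    have := card_ptData f k' x.1 x.2.2
    rw [Nat.card_of_isEmpty] at this
    exact (Nat.pos_of_dvd_of_pos x.2.2 hpos).ne this
  have : Finite S := Finite.of_surjective (Sigma.fst : (Σ x : S, PtData f k' x.1) → S)
    fun x => (hne x).elim fun c => ⟨⟨x, c⟩, rfl⟩
  have : ∀ x : S, Finite (PtData f k' x.1) := fun x =>
    Finite.of_injective (fun c => (⟨x, c⟩ : Σ x : S, PtData f k' x.1)) fun a b h => eq_of_heq (Sigma.mk.inj h).2
  let := Fintype.ofFinite S
  show Nat.card (Pts f k') = _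
  rw [← Nat.card_congr (e.trans (ptsEquiv f k')), Nat.card_sigma,
    Finset.sum_congr rfl fun (x : S) _ => card_ptData f k' x.1 x.2.2]
  unfold Zeta.nPts
  rw [← Finset.sum_fiberwise_of_maps_to (g := fun x : S => EGA4loc.residueDegree f x.1)
    (t := (Module.finrank k k').divisors) fun x _ => Nat.mem_divisors.2 ⟨x.2.2, hpos.ne'⟩]
  refine Finset.sum_congr rfl fun d hd => ?_
  rw [Finset.sum_congr rfl fun x hx => (Finset.mem_filter.1 hx).2, Finset.sum_const, smul_eq_mul, mul_comm]
  congr 1
  unfold Zeta.degCount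
  rw [← Fintype.card_subtype, ← Nat.card_eq_fintype_card]
  exact Nat.card_congr
    { toFun := fun x => ⟨x.1.1, x.1.2.1, x.2⟩
      invFun := fun x => ⟨⟨x.1, x.2.1, by rw [x.2.2]; exact Nat.dvd_of_mem_divisors hd⟩, x.2.2⟩
      left_inv := fun x => rfl
      right_inv := fun x => rfl }

end Groth.Agent.ZetaLib
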