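import Groth.Agent.ZetaLib.NPts
import Groth.Agent.ProjLib.ProjSpace

/-! Rational points of projective space. -/

universe u

open CategoryTheory CategoryTheory.Limits AlgebraicGeometry MvPolynomial HomogeneousLocalization

namespace Groth.Agent.ZetaLib

variable (n : ℕ) (k : Type u) [Field k] {K : Type u} [Field K] [Algebra k K]


/-- Evaluation of degree zero fractions in `x_i` at a vector `v` with `v i ≠ 0`. -/
noncomputable def evalAway (i : Fin (n + 1)) (v : Fin (n + 1) → K) (hv : v i ≠ 0) :
    Away (CohB1.polyGrading n k) (X i) →+* K :=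
  (IsLocalization.Away.lift (S := Localization.Away (X i : MvPolynomial (Fin (n + 1)) k))
      (X i : MvPolynomial (Fin (n + 1)) k) (g := (aeval v).toRingHom)
      (by simpa using isUnit_iff_ne_zero.2 hv)).comp
    (algebraMap (Away (CohB1.polyGrading n k) (X i)) (Localization.Away (X i : MvPolynomial (Fin (n + 1)) k)))

/-- `x_j / x_i`. -/
noncomputable def frac (i j : Fin (n + 1)) : Away (CohB1.polyGrading n k) (X i) :=
  Away.isLocalizationElem (ProjLib.X_mem_polyGrading n k i) (ProjLib.X_mem_polyGrading n k j)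

theorem val_frac (i j : Fin (n + 1)) :
    (frac n k i j).val * algebraMap (MvPolynomial (Fin (n + 1)) k) (Localization.Away (X i : MvPolynomial (Fin (n + 1)) k)) (X i) =
      algebraMap (MvPolynomial (Fin (n + 1)) k) (Localization.Away (X i : MvPolynomial (Fin (n + 1)) k)) (X j) := by
  rw [frac, Away.val_mk, Localization.mk_eq_mk', IsLocalization.mk'_spec'_mk_of_eq]
where
  IsLocalization.mk'_spec'_mk_of_eq : IsLocalization.mk' (Localization.Away (X i : MvPolynomial (Fin (n + 1)) k))
      ((X j : MvPolynomial (Fin (n + 1)) k) ^ 1) (⟨(X i : MvPolynomial (Fin (n + 1)) k) ^ 1, ⟨1, rfl⟩⟩ :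
        Submonoid.powers (X i : MvPolynomial (Fin (n + 1)) k)) *
      algebraMap (MvPolynomial (Fin (n + 1)) k) (Localization.Away (X i : MvPolynomial (Fin (n + 1)) k)) (X i) =
      algebraMap (MvPolynomial (Fin (n + 1)) k) (Localization.Away (X i : MvPolynomial (Fin (n + 1)) k)) (X j) := by
    have h := IsLocalization.mk'_spec (Localization.Away (X i : MvPolynomial (Fin (n + 1)) k))
      ((X j : MvPolynomial (Fin (n + 1)) k) ^ 1) (⟨(X i : MvPolynomial (Fin (n + 1)) k) ^ 1, ⟨1, rfl⟩⟩ :
        Submonoid.powers (X i : MvPolynomial (Fin (n + 1)) k))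
    simpa only [pow_one] using h

theorem evalAway_frac (i j : Fin (n + 1)) (v : Fin (n + 1) → K) (hv : v i ≠ 0) :
    evalAway n k i v hv (frac n k i j) = v j / v i := by
  rw [eq_div_iff hv]
  have h := congrArg (IsLocalization.Away.lift (S := Localization.Away (X i : MvPolynomial (Fin (n + 1)) k))
      (X i : MvPolynomial (Fin (n + 1)) k) (g := (aeval v).toRingHom)
      (by simpa using isUnit_iff_ne_zero.2 hv)) (val_frac n k i j)
  rw [map_mul, IsLocalization.Away.lift_eq, IsLocalization.Away.lift_eq] at h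
  simpa [evalAway] using h

theorem evalAway_toAway (i : Fin (n + 1)) (v : Fin (n + 1) → K) (hv : v i ≠ 0) (c : k) :
    evalAway n k i v hv (ProjLib.toAway n k (X i) c) = algebraMap k K c := by
  simp only [evalAway, RingHom.comp_apply, HomogeneousLocalization.algebraMap_apply, ProjLib.val_toAway,
    IsLocalization.Away.lift_eq]
  exact aeval_C v c

/-- The ring of degree zero fractions is generated by the `x_j / x_i`. -/
theorem away_hom_ext (i : Fin (n + 1)) {φ ψ : Away (CohB1.polyGrading n k) (X i) →+* K}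
    (hc : ∀ c, φ (ProjLib.toAway n k (X i) c) = ψ (ProjLib.toAway n k (X i) c))
    (hj : ∀ j, φ (frac n k i j) = ψ (frac n k i j)) : φ = ψ := by
  refine RingHom.ext fun x => ?_
  obtain ⟨N, p, hp, rfl⟩ := Away.mk_surjective (CohB1.polyGrading n k) (ProjLib.X_mem_polyGrading n k i) x
  let Φ : MvPolynomial (Fin (n + 1)) k →+* Away (CohB1.polyGrading n k) (X i) :=
    eval₂Hom (ProjLib.toAway n k (X i)) (frac n k i)
  have key : Away.mk (CohB1.polyGrading n k) (ProjLib.X_mem_polyGrading n k i) N p hp = Φ p := by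
    refine HomogeneousLocalization.val_injective _ ?_
    rw [Away.val_mk, Localization.mk_eq_mk', ← HomogeneousLocalization.algebraMap_apply,
      IsLocalization.mk'_eq_iff_eq_mul]
    conv_lhs => rw [p.as_sum]
    conv_rhs => rw [p.as_sum]
    rw [map_sum, map_sum, map_sum, Finset.sum_mul]
    refine Finset.sum_congr rfl fun m hm => ?_
    have hdeg : ∑ j, m j = N := by
      have h1 := (mem_homogeneousSubmodule _ p).1 hp (mem_support_iff.1 hm)
      rw [smul_eq_mul, mul_one] at h1
      rw [← h1]
      simp [Finsupp.weight, Finsupp.linearCombination_apply, Finsupp.sum_fintype]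
    rw [monomial_eq, Finsupp.prod_fintype _ _ (fun _ => pow_zero _)]
    simp only [map_mul, map_prod, map_pow, Φ, eval₂Hom_C, eval₂Hom_X',
      HomogeneousLocalization.algebraMap_apply, ProjLib.val_toAway, ← hdeg, ← Finset.prod_pow_eq_pow_sum]
    rw [mul_assoc, ← Finset.prod_mul_distrib]
    congr 1
    exact Finset.prod_congr rfl fun j _ => by rw [← mul_pow, val_frac]
  rw [key]
  exact RingHom.congr_fun (ringHom_ext (f := φ.comp Φ) (g := ψ.comp Φ) (fun c => by simp [Φ, hc])
    fun j => by simp [Φ, hj]) p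

variable (K) in
/-- Normalised vectors: the first nonzero coordinate is `1`. -/
def NormVec : Type u :=
  Σ i : Fin (n + 1), { v : Fin (n + 1) → K // v i = 1 ∧ ∀ j < i, v j = 0 }

theorem card_normVec [Finite K] :
    Nat.card (NormVec n K) = ∑ j ∈ Finset.range (n + 1), Nat.card K ^ j := by
  classical
  have : Fintype K := Fintype.ofFinite K
  have e : ∀ i : Fin (n + 1), { v : Fin (n + 1) → K // v i = 1 ∧ ∀ j < i, v j = 0 } ≃ ({j // i < j} → K) := fun i =>
    { toFun := fun v j => v.1 j.1
      invFun := fun w => ⟨fun j => if h : i < j then w ⟨j, h⟩ else if j = i then 1 else 0,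
        by simp, fun j hj => by simp [hj.not_gt, hj.ne]⟩
      left_inv := fun v => Subtype.ext (funext fun j => by
        rcases lt_trichotomy i j with h | h | h
        · simp [h]
        · subst h; simp [v.2.1]
        · simp [h.not_gt, h.ne, v.2.2 j h])
      right_inv := fun w => funext fun j => by simp [j.2] }
  show Nat.card (Σ i : Fin (n + 1), _) = _
  rw [Nat.card_sigma, ← Fin.sum_univ_eq_sum_range (fun j => Nat.card K ^ j) (n + 1),
    ← Equiv.sum_comp Fin.revPerm (fun j : Fin (n + 1) => Nat.card K ^ (j : ℕ))]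
  refine Finset.sum_congr rfl fun i _ => ?_
  rw [Nat.card_congr (e i), Nat.card_fun]
  congr 1
  rw [Nat.card_eq_fintype_card, Fintype.card_subtype]
  have : Finset.univ.filter (fun j : Fin (n + 1) => i < j) = Finset.Ioi i := by ext; simp
  rw [this, Fin.card_Ioi, Fin.revPerm_apply, Fin.val_rev]
  omega

/-- The point with given normalised coordinates. -/
noncomputable def toPts (w : NormVec n K) : Pts (CohB1.ProjSpace.toSpec n k) K :=
  ⟨Spec.map (CommRingCat.ofHom (evalAway n k w.1 w.2.1 (by rw [w.2.2.1]; exact one_ne_zero))) ≫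
      Proj.awayι (CohB1.polyGrading n k) (X w.1) (ProjLib.X_mem_polyGrading n k w.1) one_pos, by
    refine (Category.assoc _ _ _).trans ?_
    refine (congrArg (fun g => Spec.map (CommRingCat.ofHom (evalAway n k w.1 w.2.1
      (by rw [w.2.2.1]; exact one_ne_zero))) ≫ g)
      (ProjLib.awayι_toSpec n k (ProjLib.X_mem_polyGrading n k w.1) one_pos)).trans ?_
    rw [← Spec.map_comp]
    exact congrArg (fun r => Spec.map (CommRingCat.ofHom r)) (RingHom.ext fun c => evalAway_toAway n k w.1 w.2.1 (by rw [w.2.2.1]; exact one_ne_zero) c)⟩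

theorem mem_basicOpen_iff (i j : Fin (n + 1)) (φ : Away (CohB1.polyGrading n k) (X i) →+* K) :
    (Spec.map (CommRingCat.ofHom φ) ≫
      Proj.awayι (CohB1.polyGrading n k) (X i) (ProjLib.X_mem_polyGrading n k i) one_pos)
        (IsLocalRing.closedPoint K) ∈ Proj.basicOpen (CohB1.polyGrading n k) (X j) ↔ φ (frac n k i j) ≠ 0 := by
  have h := Proj.awayι_preimage_basicOpen (𝒜 := CohB1.polyGrading n k) (ProjLib.X_mem_polyGrading n k i) one_pos
    (ProjLib.X_mem_polyGrading n k j) one_pos
  constructor
  · intro hx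
    have h2 : (Spec.map (CommRingCat.ofHom φ)) (IsLocalRing.closedPoint K) ∈
        (Proj.awayι (CohB1.polyGrading n k) (X i) (ProjLib.X_mem_polyGrading n k i) one_pos) ⁻¹ᵁ
          Proj.basicOpen (CohB1.polyGrading n k) (X j) := hx
    rw [h] at h2
    intro h0
    apply h2
    show frac n k i j ∈ Ideal.comap φ _
    rw [Ideal.mem_comap, h0]; exact zero_mem _
  · intro h0
    show (Spec.map (CommRingCat.ofHom φ)) (IsLocalRing.closedPoint K) ∈
        (Proj.awayι (CohB1.polyGrading n k) (X i) (ProjLib.X_mem_polyGrading n k i) one_pos) ⁻¹ᵁ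
          Proj.basicOpen (CohB1.polyGrading n k) (X j)
    rw [h]
    intro hm
    have hm' : φ (frac n k i j) ∈ IsLocalRing.maximalIdeal K := hm
    rw [IsLocalRing.maximalIdeal_eq_bot, Ideal.mem_bot] at hm'
    exact h0 hm'

theorem toPts_bijective : Function.Bijective (toPts n k : NormVec n K → Pts (CohB1.ProjSpace.toSpec n k) K) := by
  classical
  have hmem : ∀ (w : NormVec n K) (j : Fin (n + 1)),
      (toPts n k w).1 (IsLocalRing.closedPoint K) ∈ Proj.basicOpen (CohB1.polyGrading n k) (X j) ↔ w.2.1 j ≠ 0 := by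
    intro w j
    refine (mem_basicOpen_iff n k w.1 j _).trans ?_
    rw [evalAway_frac, w.2.2.1, div_one]
  constructor
  · rintro ⟨i, v, hv⟩ ⟨i', v', hv'⟩ h
    have hij : ∀ j, v j ≠ 0 ↔ v' j ≠ 0 := fun j => by
      rw [← hmem ⟨i, v, hv⟩ j, h, hmem ⟨i', v', hv'⟩ j]
    have hi : i = i' := by
      refine le_antisymm (le_of_not_gt fun hlt => ?_) (le_of_not_gt fun hlt => ?_)
      · exact (hij i').2 (by rw [hv'.1]; exact one_ne_zero) (hv.2 i' hlt)
      · exact (hij i).1 (by rw [hv.1]; exact one_ne_zero) (hv'.2 i hlt)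
    subst hi
    have h1 := (cancel_mono (Proj.awayι (CohB1.polyGrading n k) (X i) (ProjLib.X_mem_polyGrading n k i) one_pos)).1
      (congrArg Subtype.val h)
    have h2 := congrArg CommRingCat.Hom.hom (Spec.map_injective h1)
    have hvv : v = v' := funext fun j => by
      have h3 : evalAway n k i v (by rw [hv.1]; exact one_ne_zero) (frac n k i j) =
          evalAway n k i v' (by rw [hv'.1]; exact one_ne_zero) (frac n k i j) := RingHom.congr_fun h2 _
      rwa [evalAway_frac, evalAway_frac, hv.1, hv'.1, div_one, div_one] at h3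
    subst hvv
    rfl
  · rintro ⟨g, hg⟩
    obtain ⟨j₀, hj₀⟩ : ∃ j, g (IsLocalRing.closedPoint K) ∈ Proj.basicOpen (CohB1.polyGrading n k) (X j) :=
      TopologicalSpace.Opens.mem_iSup.1 ((ProjLib.iSup_basicOpen_X n k).symm ▸ trivial)
    let S := Finset.univ.filter fun j : Fin (n + 1) =>
      g (IsLocalRing.closedPoint K) ∈ Proj.basicOpen (CohB1.polyGrading n k) (X j)
    have hS : S.Nonempty := ⟨j₀, Finset.mem_filter.2 ⟨Finset.mem_univ _, hj₀⟩⟩
    let i := S.min' hS
    have hi : g (IsLocalRing.closedPoint K) ∈ Proj.basicOpen (CohB1.polyGrading n k) (X i) :=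
      (Finset.mem_filter.1 (S.min'_mem hS)).2
    let ι := Proj.awayι (CohB1.polyGrading n k) (X i) (ProjLib.X_mem_polyGrading n k i) one_pos
    have hrange : Set.range g ⊆ Set.range ι := by
      rintro _ ⟨z, rfl⟩
      obtain rfl : z = IsLocalRing.closedPoint K := Subsingleton.elim (α := PrimeSpectrum K) _ _
      show g (IsLocalRing.closedPoint K) ∈ ι.opensRange
      rw [Proj.opensRange_awayι]
      exact hi
    obtain ⟨φ, hφ⟩ : ∃ φ, Spec.map φ ≫ ι = g :=
      ⟨Spec.preimage (IsOpenImmersion.lift ι g hrange), by rw [Spec.map_preimage, IsOpenImmersion.lift_fac]⟩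
    let v : Fin (n + 1) → K := fun j => φ.hom (frac n k i j)
    have hvi : v i = 1 := by
      have : frac n k i i = 1 := HomogeneousLocalization.val_injective _ (by
        have h := val_frac n k i i
        have hu : IsUnit (algebraMap (MvPolynomial (Fin (n + 1)) k)
            (Localization.Away (X i : MvPolynomial (Fin (n + 1)) k)) (X i)) :=
          IsLocalization.map_units _ (⟨X i, 1, pow_one _⟩ : Submonoid.powers (X i : MvPolynomial (Fin (n + 1)) k))
        rw [HomogeneousLocalization.val_one]
        exact hu.mul_right_cancel (by rw [one_mul]; exact h))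
      show φ.hom (frac n k i i) = 1
      rw [this, map_one]
    have hlt : ∀ j < i, v j = 0 := fun j hj => by
      by_contra h0
      have h1 := (mem_basicOpen_iff n k i j φ.hom).2 h0
      have h2 : g (IsLocalRing.closedPoint K) ∈ Proj.basicOpen (CohB1.polyGrading n k) (X j) := hφ ▸ h1
      exact (S.min'_le j (Finset.mem_filter.2 ⟨Finset.mem_univ _, h2⟩)).not_gt hj
    refine ⟨⟨i, v, hvi, hlt⟩, Subtype.ext ?_⟩
    refine Eq.trans ?_ hφ
    refine congrArg (fun r => Spec.map (CommRingCat.ofHom r) ≫ ι) (away_hom_ext n k i (fun c => ?_) fun j => ?_)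
    · rw [evalAway_toAway]
      have h1 : Spec.map φ ≫ ι ≫ CohB1.ProjSpace.toSpec n k = Spec.map (CommRingCat.ofHom (algebraMap k K)) := by
        rw [← Category.assoc]
        exact (congrArg (· ≫ CohB1.ProjSpace.toSpec n k) hφ).trans hg
      rw [ProjLib.awayι_toSpec n k (ProjLib.X_mem_polyGrading n k i) one_pos, ← Spec.map_comp] at h1
      exact (RingHom.congr_fun (congrArg CommRingCat.Hom.hom (Spec.map_injective h1)) c).symm
    · show evalAway n k i v (by rw [hvi]; exact one_ne_zero) (frac n k i j) = v j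
      rw [evalAway_frac, hvi, div_one]

theorem card_pts_projSpace [Finite K] :
    Nat.card (Pts (CohB1.ProjSpace.toSpec n k) K) = ∑ j ∈ Finset.range (n + 1), Nat.card K ^ j :=
  (Nat.card_eq_of_bijective _ (toPts_bijective n k)).symm.trans (card_normVec n)

end Groth.Agent.ZetaLib
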