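import Mathlib.Analysis.Normed.Group.Tannery
import Mathlib.Analysis.SpecificLimits.Normed
import Mathlib.Analysis.Complex.Exponential
import Mathlib.NumberTheory.LSeries.Basic
import Mathlib.Data.Finsupp.Basic
import Mathlib.Algebra.BigOperators.Field
import Mathlib.Analysis.Normed.Group.Indicator
import Mathlib.Analysis.SpecialFunctions.Pow.Complex

/-! An abstract Euler product: the sum of a completely multiplicative weight over a free commutative
monoid, its convergence and nonvanishing. -/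

namespace Groth.Agent.ZetaLib

open Filter Topology

variable {ι : Type*}

/-- The weight of a multiset of indices. -/
noncomputable def wt (t : ι → ℂ) (α : ι →₀ ℕ) : ℂ := α.prod fun i m => t i ^ m

theorem wt_add (t : ι → ℂ) (α β : ι →₀ ℕ) : wt t (α + β) = wt t α * wt t β := by
  classical
  exact Finsupp.prod_add_index' (fun _ => pow_zero _) fun _ _ _ => pow_add _ _ _

theorem hasSum_finset (t : ι → ℂ) (ht : ∀ i, ‖t i‖ < 1) (S : Finset ι) :
    HasSum (fun α : {α : ι →₀ ℕ // α.support ⊆ S} => wt t α) (∏ i ∈ S, (1 - t i)⁻¹) := by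
  classical
  induction S using Finset.induction with
  | empty =>
    have : Unique {α : ι →₀ ℕ // α.support ⊆ (∅ : Finset ι)} :=
      { default := ⟨0, by simp⟩
        uniq := fun α => Subtype.ext (Finsupp.support_eq_empty.mp (Finset.subset_empty.mp α.2)) }
    rw [Finset.prod_empty]
    convert hasSum_unique (fun α : {α : ι →₀ ℕ // α.support ⊆ (∅ : Finset ι)} => wt t α)
    have h0 : ∀ α : {α : ι →₀ ℕ // α.support ⊆ (∅ : Finset ι)}, (α : ι →₀ ℕ) = 0 := fun α =>
      Finsupp.support_eq_empty.mp (Finset.subset_empty.mp α.2)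
    rw [h0]
    simp [wt]
  | @insert i S hi ih =>
    rw [Finset.prod_insert hi]
    have hg : HasSum (fun m : ℕ => t i ^ m) (1 - t i)⁻¹ := hasSum_geometric_of_norm_lt_one (ht i)
    have hmul := hg.mul ih (summable_mul_of_summable_norm (f := fun m : ℕ => t i ^ m)
      (g := fun α : {α : ι →₀ ℕ // α.support ⊆ S} => wt t α)
      (summable_norm_iff.mpr hg.summable) (summable_norm_iff.mpr ih.summable))
    let e : ℕ × {α : ι →₀ ℕ // α.support ⊆ S} → {α : ι →₀ ℕ // α.support ⊆ insert i S} := fun p =>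
      ⟨Finsupp.single i p.1 + p.2.1, Finsupp.support_add.trans (Finset.union_subset
        (Finsupp.support_single_subset.trans (by simp)) (p.2.2.trans (Finset.subset_insert _ _)))⟩
    have hα : ∀ α : {α : ι →₀ ℕ // α.support ⊆ S}, α.1 i = 0 := fun α =>
      Finsupp.notMem_support_iff.mp fun h => hi (α.2 h)
    have he : Function.Bijective e := by
      refine ⟨fun p q h => ?_, fun α => ?_⟩
      · have h' : Finsupp.single i p.1 + p.2.1 = Finsupp.single i q.1 + q.2.1 := congrArg Subtype.val h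
        have h1 : p.1 = q.1 := by
          have := DFunLike.congr_fun h' i
          simpa [hα] using this
        rw [h1] at h'
        exact Prod.ext h1 (Subtype.ext (add_left_cancel h'))
      · refine ⟨(α.1 i, ⟨α.1.erase i, ?_⟩), Subtype.ext (Finsupp.single_add_erase i α.1)⟩
        rw [Finsupp.support_erase]
        intro j hj
        obtain ⟨hji, hj⟩ := Finset.mem_erase.mp hj
        exact (Finset.mem_insert.mp (α.2 hj)).resolve_left hji
    rw [← Function.Injective.hasSum_iff he.1 (fun α h => absurd (he.2 α) h)]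
    refine hmul.congr_fun fun p => ?_
    show wt t (Finsupp.single i p.1 + p.2.1) = t i ^ p.1 * wt t p.2
    rw [wt_add]
    congr 1
    exact Finsupp.prod_single_index (pow_zero _)

theorem norm_wt (t : ι → ℂ) (α : ι →₀ ℕ) : ‖wt t α‖ = α.prod fun i m => ‖t i‖ ^ m := by
  simp [wt, Finsupp.prod, norm_prod, norm_pow]

theorem summable_norm_wt (t : ι → ℂ) {c : ℝ} (hc : c < 1) (ht : ∀ i, ‖t i‖ ≤ c)
    (hs : Summable fun i => ‖t i‖) : Summable fun α => ‖wt t α‖ := by
  classical
  refine summable_of_sum_le (c := Real.exp ((∑' i, ‖t i‖) / (1 - c))) (fun α => norm_nonneg _) fun T => ?_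
  set S := T.biUnion Finsupp.support
  let t' : ι → ℂ := fun i => (‖t i‖ : ℂ)
  have h := hasSum_finset t' (fun i => by simpa [t'] using (ht i).trans_lt hc) S
  have h' : HasSum (fun α : {α : ι →₀ ℕ // α.support ⊆ S} => ‖wt t α‖) (∏ i ∈ S, (1 - ‖t i‖)⁻¹) := by
    have e1 : ∀ α : {α : ι →₀ ℕ // α.support ⊆ S}, wt t' α = (‖wt t α‖ : ℂ) := fun α => by
      rw [norm_wt]; simp [wt, t', Finsupp.prod]
    have e2 : ∏ i ∈ S, (1 - t' i)⁻¹ = ((∏ i ∈ S, (1 - ‖t i‖)⁻¹ : ℝ) : ℂ) := by simp [t']
    rw [e2, funext e1] at h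
    exact Complex.hasSum_ofReal.mp h
  have h1 : ∑ α ∈ T, ‖wt t α‖ = ∑ α ∈ T.subtype (fun α => α.support ⊆ S), ‖wt t α.1‖ := by
    exact (Finset.sum_subtype_of_mem (fun α => ‖wt t α‖)
      fun α hα => Finset.subset_biUnion_of_mem Finsupp.support hα).symm
  rw [h1]
  refine (sum_le_hasSum _ (fun α _ => norm_nonneg _) h').trans ?_
  have hb : ∀ i, 0 < 1 - ‖t i‖ := fun i => by linarith [ht i]
  calc ∏ i ∈ S, (1 - ‖t i‖)⁻¹ ≤ ∏ i ∈ S, Real.exp (‖t i‖ / (1 - c)) := by
        refine Finset.prod_le_prod (fun i _ => (inv_pos.mpr (hb i)).le) fun i _ => ?_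
        refine le_trans ?_ (Real.add_one_le_exp _)
        have h2 : ‖t i‖ / (1 - ‖t i‖) ≤ ‖t i‖ / (1 - c) :=
          div_le_div_of_nonneg_left (norm_nonneg _) (by linarith) (by linarith [ht i])
        have h3 : (1 - ‖t i‖)⁻¹ = ‖t i‖ / (1 - ‖t i‖) + 1 := by
          field_simp [(hb i).ne']; ring
        linarith
    _ = Real.exp (∑ i ∈ S, ‖t i‖ / (1 - c)) := (Real.exp_sum _ _).symm
    _ ≤ _ := by
        rw [← Finset.sum_div]
        exact Real.exp_le_exp.mpr (div_le_div_of_nonneg_right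
          (hs.sum_le_tsum S fun i _ => norm_nonneg _) (by linarith))

theorem tsum_wt_ne_zero (t : ι → ℂ) {c : ℝ} (hc : c < 1) (ht : ∀ i, ‖t i‖ ≤ c)
    (hs : Summable fun i => ‖t i‖) : ∑' α, wt t α ≠ 0 := by
  classical
  have hsum := summable_norm_wt t hc ht hs
  have hlim : Tendsto (fun S : Finset ι => ∏ i ∈ S, (1 - t i)⁻¹) atTop (𝓝 (∑' α, wt t α)) := by
    have h1 : ∀ S : Finset ι, ∏ i ∈ S, (1 - t i)⁻¹ =
        ∑' α, Set.indicator {α : ι →₀ ℕ | α.support ⊆ S} (wt t) α := fun S => by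
      rw [← tsum_subtype]
      exact (hasSum_finset t (fun i => (ht i).trans_lt hc) S).tsum_eq.symm
    simp_rw [h1]
    refine tendsto_tsum_of_dominated_convergence hsum (fun α => ?_) (Eventually.of_forall fun S α => ?_)
    · refine tendsto_const_nhds.congr' ?_
      filter_upwards [eventually_ge_atTop α.support] with S hS
      exact (Set.indicator_of_mem (show α ∈ {α : ι →₀ ℕ | α.support ⊆ S} from hS) _).symm
    · exact norm_indicator_le_norm_self _ _
  intro h0
  rw [h0] at hlim
  have hlow : ∀ S : Finset ι, Real.exp (-∑' i, ‖t i‖) ≤ ‖∏ i ∈ S, (1 - t i)⁻¹‖ := fun S => by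
    rw [norm_prod]
    calc Real.exp (-∑' i, ‖t i‖) ≤ Real.exp (∑ i ∈ S, -‖t i‖) := by
          rw [Finset.sum_neg_distrib]
          exact Real.exp_le_exp.mpr (neg_le_neg (hs.sum_le_tsum S fun i _ => norm_nonneg _))
      _ = ∏ i ∈ S, Real.exp (-‖t i‖) := Real.exp_sum _ _
      _ ≤ ∏ i ∈ S, ‖(1 - t i)⁻¹‖ := by
          refine Finset.prod_le_prod (fun i _ => (Real.exp_pos _).le) fun i _ => ?_
          rw [norm_inv, Real.exp_neg]
          refine inv_anti₀ ?_ ((norm_sub_le _ _).trans ?_)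
          · rw [norm_pos_iff, sub_ne_zero]
            intro h
            have := (ht i).trans_lt hc
            rw [← h, norm_one] at this
            exact lt_irrefl _ this
          · rw [norm_one, add_comm]; exact Real.add_one_le_exp _
  exact (Real.exp_pos _).not_ge ((le_of_tendsto_of_tendsto' tendsto_const_nhds hlim.norm hlow).trans_eq norm_zero)

/-- Dirichlet series of a free monoid with multiplicative norm. -/
theorem lseries_of_norms (N : ι → ℕ) (hN : ∀ i, 2 ≤ N i) (a : ℕ → ℂ)
    (ha : ∀ n, a n = Nat.card {α : ι →₀ ℕ // (α.prod fun i m => N i ^ m) = n})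
    (s : ℂ) (hσ : 0 < s.re) (hs : Summable fun i => (N i : ℝ) ^ (-s.re)) :
    LSeriesSummable a s ∧ LSeries a s ≠ 0 := by
  classical
  have hs0 : -s ≠ 0 := neg_ne_zero.mpr fun h => by rw [h] at hσ; exact lt_irrefl _ hσ
  let χ : ℕ →* ℂ :=
    { toFun := fun n => (n : ℂ) ^ (-s)
      map_one' := by simp
      map_mul' := fun m n => by push_cast; exact Complex.natCast_mul_natCast_cpow m n (-s) }
  let t : ι → ℂ := fun i => χ (N i)
  have hnorm : ∀ i, ‖t i‖ = (N i : ℝ) ^ (-s.re) := fun i => by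
    show ‖((N i : ℕ) : ℂ) ^ (-s)‖ = _
    rw [Complex.norm_natCast_cpow_of_pos (lt_of_lt_of_le two_pos (hN i)), Complex.neg_re]
  have ht : ∀ i, ‖t i‖ ≤ (2 : ℝ) ^ (-s.re) := fun i => by
    rw [hnorm]
    exact Real.rpow_le_rpow_of_nonpos two_pos (by exact_mod_cast hN i) (by linarith)
  have hc : (2 : ℝ) ^ (-s.re) < 1 := Real.rpow_lt_one_of_one_lt_of_neg one_lt_two (by linarith)
  have hsn : Summable fun i => ‖t i‖ := by simpa [hnorm] using hs
  set W : (ι →₀ ℕ) → ℕ := fun α => α.prod fun i m => N i ^ m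
  have hW : ∀ α, wt t α = χ (W α) := fun α => by simp [wt, W, t, Finsupp.prod]
  have hW0 : ∀ α, W α ≠ 0 := fun α =>
    Finset.prod_ne_zero_iff.mpr fun i _ => pow_ne_zero _ (by have := hN i; omega)
  have hsum := (summable_norm_wt t hc ht hsn).of_norm
  let e := Equiv.sigmaFiberEquiv W
  have hfin : ∀ n, Finite {α // W α = n} := fun n => by
    by_contra hinf
    rw [not_finite_iff_infinite] at hinf
    rcases eq_or_ne n 0 with rfl | hn
    · obtain ⟨α, hα⟩ := (inferInstance : Nonempty {α // W α = 0})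
      exact hW0 α hα
    have h1 := (summable_norm_wt t hc ht hsn).comp_injective (Subtype.val_injective (p := fun α => W α = n))
    have h2 : ((fun α => ‖wt t α‖) ∘ Subtype.val : {α // W α = n} → ℝ) = fun _ => ‖χ n‖ := funext fun α => by
      rw [Function.comp_apply, hW, α.2]
    rw [h2, summable_const_iff, norm_eq_zero] at h1
    exact (Complex.cpow_ne_zero_iff.mpr (Or.inl (by exact_mod_cast hn)) : (n : ℂ) ^ (-s) ≠ 0) h1
  have hterm : ∀ n, LSeries.term a s n = ∑' x : {α // W α = n}, wt t x := fun n => by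
    have h3 : (fun x : {α // W α = n} => wt t x) = fun _ => χ n := funext fun x => by rw [hW, x.2]
    rw [h3, tsum_const]
    rcases eq_or_ne n 0 with rfl | hn
    · have : IsEmpty {α // W α = 0} := ⟨fun x => hW0 x x.2⟩
      simp
    · rw [LSeries.term_of_ne_zero hn, ha n, nsmul_eq_mul]
      show _ = (Nat.card {α // W α = n} : ℂ) * (n : ℂ) ^ (-s)
      rw [Complex.cpow_neg, div_eq_mul_inv]
  have hsig : Summable fun x : Σ n, {α // W α = n} => wt t (e x) := e.summable_iff.mpr hsum
  have hmain : HasSum (LSeries.term a s) (∑' α, wt t α) := by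
    have h4 := hsig.hasSum.sigma fun n => (hsig.sigma_factor n).hasSum
    rw [e.tsum_eq (fun α => wt t α)] at h4
    exact h4.congr_fun hterm
  refine ⟨hmain.summable, ?_⟩
  rw [LSeries, hmain.tsum_eq]
  exact tsum_wt_ne_zero t hc ht hsn

end Groth.Agent.ZetaLib
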