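import Groth.Agent.ZetaLib.HyperCount
import Groth.Agent.DimLib.Algebra

/-!
# Many rational points on an affine variety over a finite field
-/

set_option autoImplicit false
set_option linter.style.haveILetI false

universe u

open MvPolynomial

namespace Groth.Agent.ZetaLib

section Model

variable (k : Type u) [CommRing k] (A : Type u) [CommRing A] [IsDomain A] [Algebra k A]

/-- A hypersurface birational to `Spec A`, separable over affine `r`-space. -/
structure HyperModel (r : ℕ) where
  g : Polynomial (MvPolynomial (Fin r) k)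
  monic : g.Monic
  one_le : 1 ≤ g.natDegree
  D : MvPolynomial (Fin r) k
  D_ne : D ≠ 0
  sep : ∃ U V : Polynomial (MvPolynomial (Fin r) k), U * g + V * g.derivative = Polynomial.C D
  h : MvPolynomial (Fin r) k
  h_ne : h ≠ 0
  /-- evaluation at the generic point -/
  ψ : Polynomial (MvPolynomial (Fin r) k) →ₐ[k] FractionRing A
  ker_ψ : ∀ p, ψ p = 0 → g ∣ p
  num : Fin r → A
  den : A
  num_den : ∀ i, algebraMap A (FractionRing A) (num i) = ψ (Polynomial.C (X i)) * algebraMap A (FractionRing A) den
  reg : ∀ a : A, ∃ p n, ψ (Polynomial.C h) ^ n * algebraMap A (FractionRing A) a = ψ p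
  den_inv : ∃ p n, ψ (Polynomial.C h) ^ n = algebraMap A (FractionRing A) den * ψ p
  ψh : ψ (Polynomial.C h) ≠ 0

theorem exists_hyperModel_of [IsDomain k] [UniqueFactorizationMonoid k] [Algebra.FiniteType k A] {r : ℕ}
    [Algebra (MvPolynomial (Fin r) k) (FractionRing A)]
    [IsScalarTower k (MvPolynomial (Fin r) k) (FractionRing A)]
    [FaithfulSMul (MvPolynomial (Fin r) k) (FractionRing A)]
    [Algebra (FractionRing (MvPolynomial (Fin r) k)) (FractionRing A)]
    [IsScalarTower (MvPolynomial (Fin r) k) (FractionRing (MvPolynomial (Fin r) k)) (FractionRing A)]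
    [Algebra.IsSeparable (FractionRing (MvPolynomial (Fin r) k)) (FractionRing A)] :
    Nonempty (HyperModel k A r) := by
  classical
  set K := FractionRing A
  haveI : Algebra.EssFiniteType A K := Algebra.EssFiniteType.of_isLocalization K (nonZeroDivisors A)
  haveI : Algebra.EssFiniteType k K := Algebra.EssFiniteType.comp k A K
  set R := MvPolynomial (Fin r) k with hR
  set L := FractionRing R
  let x : Fin r → K := fun i => algebraMap R K (X i)
  haveI : Algebra.EssFiniteType L K := by
    haveI : IsScalarTower k L K := IsScalarTower.of_algebraMap_eq fun c => by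
      rw [IsScalarTower.algebraMap_apply k R L, ← IsScalarTower.algebraMap_apply R L K,
        ← IsScalarTower.algebraMap_apply k R K]
    exact Algebra.EssFiniteType.of_comp k L K
  haveI : FiniteDimensional L K := Algebra.finite_of_essFiniteType_of_isAlgebraic
  obtain ⟨α₀, hα₀⟩ := Field.exists_primitive_element L K
  have halg : IsAlgebraic R α₀ := by
    rw [IsFractionRing.isAlgebraic_iff R L K]
    exact Algebra.IsAlgebraic.isAlgebraic α₀
  obtain ⟨y, hy, hint⟩ := halg.exists_integral_multiple
  set α := y • α₀ with hαdef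
  have hα : Algebra.adjoin L ({α} : Set K) = ⊤ := by
    have h1 : IntermediateField.adjoin L ({α} : Set K) = ⊤ := by
      refine eq_top_iff.2 (hα₀ ▸ IntermediateField.adjoin_simple_le_iff.2 ?_)
      have hm := IntermediateField.mem_adjoin_simple_self L α
      have hy' : algebraMap R L y ≠ 0 := by
        rw [Ne, map_eq_zero_iff _ (IsFractionRing.injective R L)]; exact hy
      have e : α₀ = (algebraMap R L y)⁻¹ • α := by
        rw [hαdef, ← algebraMap_smul L y α₀, smul_smul, inv_mul_cancel₀ hy', one_smul]
      rw [e]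
      exact IntermediateField.smul_mem _ hm
    rw [← IntermediateField.adjoin_simple_toSubalgebra_of_isAlgebraic (Algebra.IsAlgebraic.isAlgebraic α), h1,
      IntermediateField.top_toSubalgebra]
  set g := minpoly R α with hgdef
  have hgm : g.Monic := minpoly.monic hint
  have hgL : minpoly L α = g.map (algebraMap R L) := minpoly.isIntegrallyClosed_eq_field_fractions' L hint
  let ψ : Polynomial R →ₐ[k] K := (Polynomial.aeval α : Polynomial R →ₐ[R] K).restrictScalars k
  have hker : ∀ p, ψ p = 0 → g ∣ p := fun p hp =>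
    minpoly.isIntegrallyClosed_dvd hint hp
  -- separability
  have hsepα : (g.map (algebraMap R L)).Separable := hgL ▸ Algebra.IsSeparable.isSeparable L α
  obtain ⟨u, v, huv⟩ := hsepα
  obtain ⟨b, hb, hub⟩ := IsLocalization.integerNormalization_spec (nonZeroDivisors R) u
  obtain ⟨c, hc, hvc⟩ := IsLocalization.integerNormalization_spec (nonZeroDivisors R) v
  set U := IsLocalization.integerNormalization (nonZeroDivisors R) u
  set V := IsLocalization.integerNormalization (nonZeroDivisors R) v
  have hD : Polynomial.C c * U * g + Polynomial.C b * V * g.derivative = Polynomial.C (b * c) := by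
    apply Polynomial.map_injective _ (IsFractionRing.injective R L)
    simp only [Polynomial.map_add, Polynomial.map_mul, Polynomial.map_C, hub, hvc, Algebra.smul_def,
      ← Polynomial.derivative_map, IsScalarTower.algebraMap_apply R L (Polynomial L), map_mul]
    simp only [Polynomial.algebraMap_apply, Algebra.algebraMap_self, RingHom.id_apply]
    linear_combination (Polynomial.C (algebraMap R L b) * Polynomial.C (algebraMap R L c)) * huv
  -- every element has a denominator in `R`
  have hden : ∀ z : K, ∃ p : Polynomial R, ∃ d ∈ nonZeroDivisors R, algebraMap R K d * z = ψ p := by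
    intro z
    have hz : z ∈ Algebra.adjoin L ({α} : Set K) := hα ▸ Algebra.mem_top
    obtain ⟨q, rfl⟩ := (Algebra.adjoin_singleton_eq_range_aeval L α).le hz
    obtain ⟨d, hd, hqd⟩ := IsLocalization.integerNormalization_spec (nonZeroDivisors R) q
    refine ⟨IsLocalization.integerNormalization (nonZeroDivisors R) q, d, hd, ?_⟩
    rw [← Algebra.smul_def]
    show d • Polynomial.aeval α q = Polynomial.aeval α (IsLocalization.integerNormalization (nonZeroDivisors R) q)
    rw [← Polynomial.aeval_map_algebraMap L α (IsLocalization.integerNormalization (nonZeroDivisors R) q), hqd,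
      ← algebraMap_smul L d q, map_smul, algebraMap_smul]
  choose P d hd hP using hden
  obtain ⟨S, hS⟩ := Algebra.FiniteType.out (R := k) (A := A)
  have hxi : ∀ i, ∃ a : A, ∃ b ∈ nonZeroDivisors A, x i * algebraMap A K b = algebraMap A K a := fun i => by
    obtain ⟨⟨a, b⟩, e⟩ := IsLocalization.surj (nonZeroDivisors A) (x i)
    exact ⟨a, b.1, b.2, e⟩
  choose ai bi hbi hab using hxi
  set den := ∏ i, bi i
  have hden0 : den ∈ nonZeroDivisors A := Submonoid.prod_mem _ fun i _ => hbi i
  obtain ⟨h, hh⟩ : ∃ h : R, h = (∏ a ∈ S, d (algebraMap A K a)) * d (algebraMap A K den)⁻¹ := ⟨_, rfl⟩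
  have hhne : h ≠ 0 := hh ▸ mul_ne_zero (Finset.prod_ne_zero_iff.2 fun a _ => nonZeroDivisors.ne_zero (hd _))
    (nonZeroDivisors.ne_zero (hd _))
  have hψC : ∀ t, ψ (Polynomial.C t) = algebraMap R K t := fun t => Polynomial.aeval_C α t
  have hψh : ψ (Polynomial.C h) ≠ 0 := by
    rw [hψC, Ne, map_eq_zero_iff _ (FaithfulSMul.algebraMap_injective R K)]; exact hhne
  refine ⟨⟨g, hgm, ?_, b * c, mul_ne_zero (nonZeroDivisors.ne_zero hb) (nonZeroDivisors.ne_zero hc), ⟨_, _, hD⟩,
    h, hhne, ψ, hker, fun i => ai i * ∏ j ∈ Finset.univ.erase i, bi j, den, ?_, ?_, ?_, hψh⟩⟩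
  · exact Nat.one_le_iff_ne_zero.2 (minpoly.natDegree_pos hint).ne'
  · intro i
    rw [hψC, map_mul, ← hab i, mul_assoc, ← map_mul, Finset.mul_prod_erase _ _ (Finset.mem_univ i)]
  · intro a
    have ha : a ∈ Algebra.adjoin k (S : Set A) := hS ▸ Algebra.mem_top
    induction ha using Algebra.adjoin_induction with
    | mem z hz =>
      refine ⟨Polynomial.C ((∏ a ∈ S.erase z, d (algebraMap A K a)) * d (algebraMap A K den)⁻¹) *
        P (algebraMap A K z), 1, ?_⟩
      rw [pow_one, map_mul, ← hP, hψC, hψC, hh, ← Finset.mul_prod_erase _ _ hz, map_mul, map_mul, map_mul]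
      ring
    | algebraMap c => exact ⟨algebraMap k (Polynomial R) c, 0, by rw [pow_zero, one_mul, AlgHom.commutes,
        ← IsScalarTower.algebraMap_apply]⟩
    | add z w _ _ hz hw =>
      obtain ⟨p, n, hp⟩ := hz
      obtain ⟨p', n', hp'⟩ := hw
      refine ⟨Polynomial.C h ^ n' * p + Polynomial.C h ^ n * p', n + n', ?_⟩
      rw [map_add, map_add, map_mul, map_mul, map_pow, map_pow, ← hp, ← hp', pow_add]
      ring
    | mul z w _ _ hz hw =>
      obtain ⟨p, n, hp⟩ := hz
      obtain ⟨p', n', hp'⟩ := hw
      refine ⟨p * p', n + n', ?_⟩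
      rw [map_mul, map_mul, ← hp, ← hp', pow_add]
      ring
  · refine ⟨Polynomial.C (∏ a ∈ S, d (algebraMap A K a)) * P (algebraMap A K den)⁻¹, 1, ?_⟩
    have hdK : algebraMap A K den ≠ 0 := by
      rw [Ne, map_eq_zero_iff _ (IsFractionRing.injective A K)]; exact nonZeroDivisors.ne_zero hden0
    rw [pow_one, map_mul, ← hP, hψC, hψC, hh, map_mul]
    show _ = algebraMap A K den * _
    generalize algebraMap A K den = w at hdK ⊢
    linear_combination (-(algebraMap R K (∏ a ∈ S, d (algebraMap A K a)) * algebraMap R K (d w⁻¹))) *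
      (mul_inv_cancel₀ hdK)

end Model

section Model'

variable {k : Type u} [Field k] [Finite k] (A : Type u) [CommRing A] [IsDomain A] [Algebra k A]
  [Algebra.FiniteType k A]

variable (k) in
theorem exists_hyperModel {r : ℕ} (hr : ringKrullDim A = r) : Nonempty (HyperModel k A r) := by
  classical
  set K := FractionRing A
  haveI : Algebra.EssFiniteType A K := Algebra.EssFiniteType.of_isLocalization K (nonZeroDivisors A)
  haveI : Algebra.EssFiniteType k K := Algebra.EssFiniteType.comp k A K
  obtain ⟨s, hs, hsep⟩ := exists_isTranscendenceBasis_and_isSeparable_of_perfectField k K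
  obtain ⟨s', g', -, -, hdim, htr⟩ := DimLib.exists_normalization (k := k) (A := A)
  have hsr : s' = r := by rw [hr] at hdim; exact_mod_cast hdim.symm
  haveI : Algebra.IsAlgebraic A K := IsLocalization.isAlgebraic K (nonZeroDivisors A)
  have hcard : s.card = r := by
    have h1 := hs.cardinalMk_eq_trdeg
    have h2 : Algebra.trdeg k K = Algebra.trdeg k A := by
      rw [← trdeg_add_eq k A (A := K), trdeg_eq_zero (R := A) (A := K), add_zero]
    rw [h2, htr, hsr, Cardinal.mk_coe_finset] at h1
    exact_mod_cast h1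
  let en : Fin r ≃ s := (finCongr hcard.symm).trans s.equivFin.symm
  let x : Fin r → K := fun i => (en i : K)
  have hx : AlgebraicIndependent k x := hs.1.comp en en.injective
  have hrange : Set.range x = (s : Set K) := by
    ext z; refine ⟨?_, fun hz => ⟨en.symm ⟨z, hz⟩, by simp [x]⟩⟩
    rintro ⟨i, rfl⟩; exact (en i).2
  set R := MvPolynomial (Fin r) k with hR
  letI algRK : Algebra R K := (aeval x).toRingHom.toAlgebra
  haveI : IsScalarTower k R K := IsScalarTower.of_algebraMap_eq fun c => ((aeval x).commutes c).symm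
  haveI : FaithfulSMul R K := (faithfulSMul_iff_algebraMap_injective R K).2
    (algebraicIndependent_iff_injective_aeval.1 hx)
  set L := FractionRing R
  letI : Algebra L K := FractionRing.liftAlgebra R K
  haveI : IsScalarTower R L K := FractionRing.isScalarTower_liftAlgebra R K
  haveI : Algebra.IsSeparable L K := by
    let e : L ≃ₐ[k] IntermediateField.adjoin k (s : Set K) :=
      hx.aevalEquivField.trans (IntermediateField.equivOfEq (by rw [hrange]))
    refine Algebra.IsSeparable.of_equiv_equiv (A₁ := IntermediateField.adjoin k (s : Set K)) (B₁ := K)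
      e.symm.toRingEquiv (RingEquiv.refl K) ?_
    have key : ((algebraMap (IntermediateField.adjoin k (s : Set K)) K).comp e.toRingEquiv.toRingHom) =
        algebraMap L K := by
      refine IsLocalization.ringHom_ext (nonZeroDivisors R) (RingHom.ext fun a => ?_)
      simp only [RingHom.comp_apply, ← IsScalarTower.algebraMap_apply R L K]
      show ((hx.aevalEquivField (algebraMap R L a) : IntermediateField.adjoin k (Set.range x)) : K) = aeval x a
      exact hx.aevalEquivField_algebraMap_apply_coe a
    refine RingHom.ext fun z => ?_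
    obtain ⟨w, rfl⟩ := e.surjective z
    have := RingHom.congr_fun key w
    simp at this ⊢
    exact this.symm
  exact exists_hyperModel_of k A

end Model'


section Hom

variable {k : Type u} [CommRing k] {A : Type u} [CommRing A] [IsDomain A] [Algebra k A]

theorem HyperModel.exists_algHom {r : ℕ} (M : HyperModel k A r) {F : Type u} [Field F] [Algebra k F]
    (x : Fin r → F) (y : F) (hy : Polynomial.eval₂ (aeval x).toRingHom y M.g = 0) (hh : aeval x M.h ≠ 0) :
    ∃ φ : A →ₐ[k] F, φ M.den ≠ 0 ∧ ∀ i, φ (M.num i) = x i * φ M.den := by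
  classical
  let ε : Polynomial (MvPolynomial (Fin r) k) →+* F := Polynomial.eval₂RingHom (aeval x).toRingHom y
  have hεC : ∀ t, ε (Polynomial.C t) = aeval x t := fun t => Polynomial.eval₂_C _ _
  have hεψ : ∀ p q, M.ψ p = M.ψ q → ε p = ε q := fun p q e => by
    obtain ⟨t, ht⟩ := M.ker_ψ (p - q) (by rw [map_sub, e, sub_self])
    rw [← sub_eq_zero, ← map_sub, ht, map_mul, show ε M.g = 0 from hy, zero_mul]
  choose P n hP using M.reg
  let φ : A → F := fun a => ε (P a) / ε (Polynomial.C M.h) ^ n a
  have hε0 : ε (Polynomial.C M.h) ≠ 0 := by rw [hεC]; exact hh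
  have hφ : ∀ a p m, M.ψ (Polynomial.C M.h) ^ m * algebraMap A (FractionRing A) a = M.ψ p →
      φ a * ε (Polynomial.C M.h) ^ m = ε p := by
    intro a p m e
    have := hεψ (Polynomial.C M.h ^ m * P a) (Polynomial.C M.h ^ n a * p)
      (by rw [map_mul, map_mul, map_pow, map_pow, ← hP, ← e]; ring)
    rw [map_mul, map_mul, map_pow, map_pow] at this
    rw [show φ a = ε (P a) / ε (Polynomial.C M.h) ^ n a from rfl, div_mul_eq_mul_div,
      div_eq_iff (pow_ne_zero _ hε0)]
    linear_combination this
  have hφ1 : φ 1 = 1 := by simpa using hφ 1 1 0 (by simp)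
  let Φ : A →ₐ[k] F :=
    { toFun := φ
      map_one' := hφ1
      map_mul' := fun a b => by
        have := hφ (a * b) (P a * P b) (n a + n b) (by rw [map_mul, map_mul, ← hP, ← hP, pow_add]; ring)
        refine mul_right_cancel₀ (pow_ne_zero (n a + n b) hε0) ?_
        rw [this, map_mul, ← hφ a _ _ (hP a), ← hφ b _ _ (hP b), pow_add]; ring
      map_zero' := by simpa using hφ 0 0 0 (by simp)
      map_add' := fun a b => by
        have := hφ (a + b) (Polynomial.C M.h ^ n b * P a + Polynomial.C M.h ^ n a * P b) (n a + n b)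
          (by rw [map_add, map_add, map_mul, map_mul, map_pow, map_pow, ← hP, ← hP, pow_add]; ring)
        refine mul_right_cancel₀ (pow_ne_zero (n a + n b) hε0) ?_
        rw [this, map_add, map_mul, map_mul, map_pow, map_pow, ← hφ a _ _ (hP a), ← hφ b _ _ (hP b), pow_add]; ring
      commutes' := fun c => by
        have := hφ (algebraMap k A c) (Polynomial.C (algebraMap k _ c)) 0
          (by rw [pow_zero, one_mul, ← IsScalarTower.algebraMap_apply, ← Polynomial.algebraMap_apply, AlgHom.commutes])
        rw [pow_zero, mul_one, hεC, AlgHom.commutes] at this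
        exact this }
  refine ⟨Φ, ?_, fun i => ?_⟩
  · obtain ⟨p, m, e⟩ := M.den_inv
    obtain ⟨p', m', e'⟩ : ∃ p' m', M.ψ (Polynomial.C M.h) ^ m' * algebraMap A (FractionRing A) M.den = M.ψ p' :=
      ⟨_, _, hP M.den⟩
    intro h0
    have h1 := hφ M.den p' m' e'
    rw [show φ M.den = 0 from h0, zero_mul] at h1
    have h2 := hεψ (Polynomial.C M.h ^ (m + m')) (p * p')
      (by rw [map_mul, map_pow, ← e', pow_add, e]; ring)
    rw [map_mul, ← h1, mul_zero, map_pow] at h2
    exact pow_ne_zero _ hε0 h2
  · have := hφ (M.num i) (Polynomial.C (X i) * P M.den) (n M.den) (by rw [map_mul, ← hP, M.num_den]; ring)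
    rw [map_mul, ← hφ M.den _ _ (hP M.den), hεC (X i), aeval_X, ← mul_assoc] at this
    exact mul_right_cancel₀ (pow_ne_zero _ hε0) this

end Hom

variable {k : Type u} [Field k] {A : Type u} [CommRing A] [IsDomain A] [Algebra k A] [Finite k] [Algebra.FiniteType k A]

theorem finite_algHom (F : Type u) [Field F] [Algebra k F] [Finite F] : Finite (A →ₐ[k] F) := by
  obtain ⟨s, hs⟩ := Algebra.FiniteType.out (R := k) (A := A)
  exact Finite.of_injective (fun φ (a : s) => φ a.1) fun φ φ' e =>
    AlgHom.ext_of_adjoin_eq_top hs fun a ha => congrFun e ⟨a, ha⟩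

/-- **Many points over large extensions of divisible degree.** -/
theorem exists_lower_affine {r : ℕ} (hr1 : 1 ≤ r) (hr : ringKrullDim A = r) :
    ∃ (e0 : ℕ) (c : ℝ) (Q : ℕ), 0 < e0 ∧ 0 < c ∧ ∀ (F : Type u) [Field F] [Algebra k F] [Finite F],
      e0 ∣ Module.finrank k F → Q ≤ Nat.card F → c * (Nat.card F : ℝ) ^ r ≤ Nat.card (A →ₐ[k] F) := by
  classical
  obtain ⟨M⟩ := exists_hyperModel k A hr
  let Kb := AlgebraicClosure k
  -- a starting point
  obtain ⟨P₀, hP₀⟩ : ∃ P₀ : Fin r → Kb, aeval P₀ M.D ≠ 0 := by
    by_contra hne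
    push Not at hne
    refine M.D_ne ?_
    have h0 : MvPolynomial.map (algebraMap k Kb) M.D = 0 := by
      refine MvPolynomial.funext fun P => ?_
      rw [eval_map, ← aeval_def, hne, map_zero]
    exact (map_eq_zero_iff _ (MvPolynomial.map_injective _ (algebraMap k Kb).injective)).1 h0
  obtain ⟨y₀, hy₀⟩ := IsAlgClosed.exists_root (M.g.map (aeval P₀).toRingHom)
    (by
      rw [M.monic.degree_map]
      exact fun h => absurd (Polynomial.natDegree_eq_zero_iff_degree_le_zero.2 h.le) (by have := M.one_le; omega))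
  set E := IntermediateField.adjoin k (insert y₀ (Set.range P₀))
  haveI : Finite ↑(insert y₀ (Set.range P₀)) := ((Set.finite_range P₀).insert y₀).to_subtype
  haveI : FiniteDimensional k E := IntermediateField.finiteDimensional_adjoin fun z _ =>
    (Algebra.IsAlgebraic.isAlgebraic z).isIntegral
  let d := M.g.natDegree
  let cb := M.g.support.sup fun i => (M.g.coeff i).totalDegree
  refine ⟨Module.finrank k E, 1 / (8 * d), 16 * (d * (cb * d ^ 2 + M.h.totalDegree + 1) + 1) ^ 2,
    Module.finrank_pos, by have : (0 : ℝ) < d := (by exact_mod_cast M.one_le); positivity, ?_⟩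
  intro F _ _ _ hdvd hQ
  haveI : Finite E := Module.finite_of_finite k
  haveI : Module.Finite k F := Module.Finite.of_finite
  obtain ⟨σ⟩ := FiniteField.nonempty_algHom_of_finrank_dvd (F := k) (K := E) (L := F) hdvd
  let mk : MvPolynomial (Fin r) k →+* MvPolynomial (Fin r) F := MvPolynomial.map (algebraMap k F)
  have hev : ∀ x : Fin r → F, (eval x).comp mk = (aeval x).toRingHom := fun x =>
    MvPolynomial.ringHom_ext (fun a => by simp [mk]) (fun i => by simp [mk])
  let PE : Fin r → E := fun i => ⟨P₀ i, IntermediateField.subset_adjoin k _ (Set.mem_insert_of_mem _ ⟨i, rfl⟩)⟩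
  let yE : E := ⟨y₀, IntermediateField.subset_adjoin k _ (Set.mem_insert _ _)⟩
  have hbc : ∀ G : Polynomial (MvPolynomial (Fin r) k),
      Polynomial.eval₂ (aeval (σ ∘ PE)).toRingHom (σ yE) G = σ (Polynomial.eval₂ (aeval PE).toRingHom yE G) := by
    intro G
    refine ((Polynomial.hom_eval₂ G (aeval (R := k) PE).toRingHom σ.toRingHom yE).trans ?_).symm
    congr 1
    exact MvPolynomial.ringHom_ext (fun a => by simp) (fun i => by simp)
  have hbK : ∀ G : Polynomial (MvPolynomial (Fin r) k),
      ((Polynomial.eval₂ (aeval PE).toRingHom yE G : E) : Kb) = (G.map (aeval P₀).toRingHom).eval y₀ := by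
    intro G
    rw [Polynomial.eval_map]
    refine (Polynomial.hom_eval₂ G (aeval (R := k) PE).toRingHom E.val.toRingHom yE).trans ?_
    congr 1
    exact MvPolynomial.ringHom_ext (fun a => by simp) (fun i => by simp [PE])
  have hg0 : Polynomial.eval₂ (aeval (σ ∘ PE)).toRingHom (σ yE) M.g = 0 := by
    rw [hbc, show Polynomial.eval₂ (aeval PE).toRingHom yE M.g = 0 from Subtype.ext ((hbK _).trans hy₀), map_zero]
  have hg1 : Polynomial.eval₂ (aeval (σ ∘ PE)).toRingHom (σ yE) M.g.derivative ≠ 0 := by
    rw [hbc, map_ne_zero]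
    intro h0
    obtain ⟨U, V, hUV⟩ := M.sep
    apply hP₀
    have h1 := congrArg (fun G => (G.map (aeval P₀).toRingHom).eval y₀) hUV
    have h2 := (hbK M.g.derivative).symm
    rw [h0] at h2
    simp only [Polynomial.map_add, Polynomial.map_mul, Polynomial.eval_add, Polynomial.eval_mul,
      Polynomial.map_C, Polynomial.eval_C, hy₀.eq_zero] at h1
    rw [h2] at h1
    simpa using h1.symm
  have htd : ∀ p : MvPolynomial (Fin r) k, (mk p).totalDegree ≤ p.totalDegree := fun p =>
    Finset.sup_mono (MvPolynomial.support_map_subset (f := algebraMap k F) p)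
  have hnd : (M.g.map mk).natDegree = d := M.monic.natDegree_map mk
  have hcount := card_roots_mv_ge hr1 (M.g.map mk) (M.monic.map _) (hnd ▸ M.one_le) cb
    (fun i => by
      rw [Polynomial.coeff_map]
      refine (htd _).trans ?_
      by_cases hi : i ∈ M.g.support
      · exact Finset.le_sup (f := fun i => (M.g.coeff i).totalDegree) hi
      · rw [Polynomial.notMem_support_iff.1 hi]; simp)
    (σ ∘ PE) (σ yE)
    (by rw [Polynomial.map_map, hev, Polynomial.eval_map]; exact hg0)
    (by rw [Polynomial.map_map, hev, Polynomial.derivative_map, Polynomial.eval_map]; exact hg1)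
    (mk M.h) (by
      rw [Ne, map_eq_zero_iff _ (MvPolynomial.map_injective _ (algebraMap k F).injective)]; exact M.h_ne)
    (by
      rw [hnd]
      exact le_trans (Nat.mul_le_mul_left _ (Nat.pow_le_pow_left (Nat.add_le_add_right (Nat.mul_le_mul_left _
        (Nat.add_le_add_right (Nat.add_le_add_left (htd M.h) _) _)) _) 2)) hQ)
  rw [hnd] at hcount
  rw [div_mul_eq_mul_div, one_mul]
  refine hcount.trans ?_
  haveI := finite_algHom (k := k) (A := A) F
  have hx : ∀ x : {x : Fin r → F // eval x (mk M.h) ≠ 0 ∧ ∃ y, ((M.g.map mk).map (eval x)).eval y = 0},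
      ∃ φ : A →ₐ[k] F, φ M.den ≠ 0 ∧ ∀ i, φ (M.num i) = x.1 i * φ M.den := by
    rintro ⟨x, hh, y, hy⟩
    refine M.exists_algHom x y ?_ ?_
    · rw [Polynomial.map_map, hev, Polynomial.eval_map] at hy; exact hy
    · intro h0; apply hh
      rw [← RingHom.comp_apply, hev]; exact h0
  choose Φ hΦ0 hΦ using hx
  exact_mod_cast Nat.card_le_card_of_injective Φ fun x x' e => Subtype.ext (funext fun i => by
    have h1 := hΦ x i
    rw [e, hΦ x' i] at h1
    exact (mul_right_cancel₀ (hΦ0 x') h1).symm)

end Groth.Agent.ZetaLib
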