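import Groth.Agent.ZetaLib.LowerCount
import Groth.Agent.ZetaLib.PointBound
import Groth.Agent.DimLib.Formula

/-!
# Many points modulo split primes on an affine arithmetic variety of characteristic zero
-/

set_option autoImplicit false
set_option linter.style.haveILetI false

universe u

open MvPolynomial

namespace Groth.Agent.ZetaLib

/-- The integers in universe `u`, without the module structures of `ULift ℤ`. -/
def ZU : Type u := ULift.{u} ℤ

noncomputable instance : CommRing ZU.{u} := inferInstanceAs (CommRing (ULift.{u} ℤ))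

/-- `ZU ≃+* ℤ`. -/
def zuEquiv : ZU.{u} ≃+* ℤ := (ULift.ringEquiv : ULift.{u} ℤ ≃+* ℤ)

instance : IsDomain ZU.{u} := MulEquiv.isDomain ℤ zuEquiv.toMulEquiv

instance : UniqueFactorizationMonoid ZU.{u} :=
  MulEquiv.uniqueFactorizationMonoid zuEquiv.symm.toMulEquiv inferInstance

instance : IsNoetherianRing ZU.{u} := isNoetherianRing_of_ringEquiv ℤ zuEquiv.symm

instance : CharZero ZU.{u} := ⟨fun a b h => by simpa using congrArg zuEquiv h⟩

theorem ringHom_ulift_int_ext {S : Type*} [Ring S] (f g : ZU.{u} →+* S) : f = g :=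
  RingHom.ext fun x => by
    obtain ⟨n, rfl⟩ := zuEquiv.{u}.symm.surjective x
    exact RingHom.congr_fun (RingHom.ext_int (f.comp zuEquiv.{u}.symm.toRingHom)
      (g.comp zuEquiv.{u}.symm.toRingHom)) n

variable (A : Type u) [CommRing A] [IsDomain A] [CharZero A] [Algebra (ZU.{u}) A]
  [Algebra.FiniteType (ZU.{u}) A]

instance faithfulSMul_ulift_int : FaithfulSMul (ZU.{u}) A := (faithfulSMul_iff_algebraMap_injective _ _).2 (by
  rw [ringHom_ulift_int_ext (algebraMap (ZU.{u}) A) ((Int.castRingHom A).comp zuEquiv.{u}.toRingHom)]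
  exact (Int.cast_injective).comp zuEquiv.{u}.injective)

omit [CommRing A] [IsDomain A] [CharZero A] [Algebra (ZU.{u}) A] [Algebra.FiniteType (ZU.{u}) A] in
theorem ringKrullDim_zu : ringKrullDim ZU.{u} ≤ 1 := by
  rw [ringKrullDim_eq_of_ringEquiv zuEquiv.{u}, IsPrincipalIdealRing.ringKrullDim_eq_one ℤ Int.not_isField]

/-- **Points modulo split primes.** -/
theorem exists_lower_int {r : ℕ} (hr : ringKrullDim A = r) :
    ∃ (G : Polynomial ℤ) (c : ℝ) (P₀ : ℕ), G.Monic ∧ 1 ≤ G.natDegree ∧ 0 < c ∧ ∀ p : ℕ, p.Prime → P₀ ≤ p →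
      (∃ y : ZMod p, (G.map (Int.castRingHom (ZMod p))).eval y = 0) →
      c * (p : ℝ) ^ ((r : ℝ) - 1) ≤ Nat.card (A →+* ULift.{u} (ZMod p)) := by
  classical
  set R0 := ZU.{u}
  set K := FractionRing A
  haveI : Algebra.IsAlgebraic A K := IsLocalization.isAlgebraic K (nonZeroDivisors A)
  obtain ⟨s, hs⟩ := exists_isTranscendenceBasis R0 A
  haveI : Fintype s := by
    refine Set.Finite.fintype ?_
    obtain ⟨S, hS⟩ := Algebra.FiniteType.out (R := R0) (A := A)
    haveI : Algebra.IsAlgebraic (Algebra.adjoin R0 (S : Set A)) A :=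
      ⟨fun a => isAlgebraic_algebraMap (⟨a, hS ▸ Algebra.mem_top⟩ : Algebra.adjoin R0 (S : Set A))⟩
    obtain ⟨t, hts, ht⟩ := exists_isTranscendenceBasis_subset (R := R0) (S : Set A)
    exact Cardinal.mk_lt_aleph0_iff.1 (hs.cardinalMk_eq ht ▸ (S.finite_toSet.subset hts).lt_aleph0)
  set n := Fintype.card s
  let x : Fin n → A := fun i => ((Fintype.equivFin s).symm i : A)
  have hx : IsTranscendenceBasis R0 x := hs.comp_equiv (Fintype.equivFin s).symm
  have htr : Algebra.trdeg R0 A = (n : Cardinal) := by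
    rw [← hs.cardinalMk_eq_trdeg, Cardinal.mk_fintype]
  haveI : IsNoetherianRing A := Algebra.FiniteType.isNoetherianRing R0 A
  have hrn : r ≤ n + 1 := by
    have h := (ringKrullDim_le_iff_isMaximal_height_le (R := A) ((n + 1 : ℕ) : WithBot ℕ∞)).2 fun m hm => by
      have h1 := DimLib.height_add_trdeg_le (R := R0) (S := A) (m.comap (algebraMap R0 A)) m
      haveI : m.LiesOver (m.comap (algebraMap R0 A)) := ⟨rfl⟩
      have h2 := (self_le_add_right _ _).trans (DimLib.height_add_trdeg_le (R := R0) (S := A)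
        (m.comap (algebraMap R0 A)) m)
      rw [htr] at h2
      have hp : (m.comap (algebraMap R0 A)).height ≤ 1 := by
        have := (Ideal.height_le_ringKrullDim_of_ne_top (I := m.comap (algebraMap R0 A))
          (Ideal.IsPrime.ne_top inferInstance)).trans ringKrullDim_zu
        exact_mod_cast this
      obtain ⟨a, ha⟩ := ENat.ne_top_iff_exists.1 (ne_top_of_le_ne_top ENat.one_ne_top hp)
      rw [← ha] at h2 hp
      have hfin : m.height ≠ ⊤ := Ideal.height_ne_top hm.ne_top
      obtain ⟨b, hb⟩ := ENat.ne_top_iff_exists.1 hfin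
      rw [← hb] at h2 ⊢
      simp only [Cardinal.ofENat_nat] at h2
      have h3 : b ≤ a + n := by exact_mod_cast h2
      have h4 : a ≤ 1 := by exact_mod_cast hp
      have h5 : b ≤ n + 1 := by omega
      exact_mod_cast h5
    rw [hr] at h
    exact_mod_cast h
  -- the generic point of the model
  set R := MvPolynomial (Fin n) R0
  letI algRA : Algebra R A := (aeval x).toRingHom.toAlgebra
  haveI : IsScalarTower R0 R A := IsScalarTower.of_algebraMap_eq fun c => ((aeval x).commutes c).symm
  haveI : FaithfulSMul R A := (faithfulSMul_iff_algebraMap_injective R A).2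
    (algebraicIndependent_iff_injective_aeval.1 hx.1)
  haveI : Algebra.IsAlgebraic R A := by
    have h1 := hx.isAlgebraic
    have e : (Algebra.adjoin R0 (Set.range x)) = (IsScalarTower.toAlgHom R0 R A).range := by
      rw [Algebra.adjoin_range_eq_range_aeval]; rfl
    rw [e] at h1
    exact ⟨fun a => (h1.isAlgebraic a).of_ringHom_of_comp_eq
      (AlgEquiv.ofInjective (IsScalarTower.toAlgHom R0 R A) (FaithfulSMul.algebraMap_injective R A)).toRingHom
      (RingHom.id A) (AlgEquiv.ofInjective (IsScalarTower.toAlgHom R0 R A)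
        (FaithfulSMul.algebraMap_injective R A)).surjective Function.injective_id (RingHom.ext fun _ => rfl)⟩
  haveI : IsScalarTower R A K := inferInstance
  haveI : IsScalarTower R0 R K := IsScalarTower.of_algebraMap_eq fun c => by
    rw [IsScalarTower.algebraMap_apply R0 A K, IsScalarTower.algebraMap_apply R0 R A,
      ← IsScalarTower.algebraMap_apply R A K]
  haveI : FaithfulSMul R K := (faithfulSMul_iff_algebraMap_injective R K).2 (by
    rw [IsScalarTower.algebraMap_eq R A K, RingHom.coe_comp]
    exact (IsFractionRing.injective A K).comp (FaithfulSMul.algebraMap_injective R A))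
  haveI : Algebra.IsAlgebraic R K := Algebra.IsAlgebraic.trans R A K
  set L := FractionRing R
  letI : Algebra L K := FractionRing.liftAlgebra R K
  haveI : IsScalarTower R L K := FractionRing.isScalarTower_liftAlgebra R K
  haveI : Algebra.IsAlgebraic L K := Algebra.IsAlgebraic.extendScalars (R := R) (IsFractionRing.injective R L)
  haveI : CharZero L := charZero_of_injective_algebraMap (IsFractionRing.injective R L)
  haveI : Algebra.IsSeparable L K := inferInstance
  obtain ⟨M⟩ := exists_hyperModel_of R0 A (r := n)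
  -- an integral starting point
  let e0 : R0 →+* ℤ := zuEquiv.{u}.toRingHom
  obtain ⟨a, ha⟩ : ∃ a : Fin n → R0, eval a M.D ≠ 0 := by
    by_contra hne
    push Not at hne
    exact M.D_ne (MvPolynomial.funext fun a => (hne a).trans (map_zero _).symm)
  set D0 := e0 (eval a M.D) with hD0
  let G := M.g.map (e0.comp (eval a))
  obtain ⟨e, he⟩ := MvPolynomial.ne_zero_iff.1 M.h_ne
  set h0 := e0 (coeff e M.h) with hh0
  let d := M.g.natDegree
  let cb := M.g.support.sup fun i => (M.g.coeff i).totalDegree
  have hd0 : (0 : ℝ) < d := by exact_mod_cast M.one_le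
  refine ⟨G, min 1 (1 / (8 * d)), max (D0.natAbs + h0.natAbs + 1)
    (16 * (d * (cb * d ^ 2 + M.h.totalDegree + 1) + 1) ^ 2), M.monic.map _,
    by rw [M.monic.natDegree_map]; exact M.one_le, lt_min one_pos (by positivity), ?_⟩
  intro p hp hP hroot
  obtain ⟨y, hy⟩ := hroot
  have : Fact p.Prime := ⟨hp⟩
  set F := ULift.{u} (ZMod p)
  letI : Algebra R0 F := ((Int.castRingHom F).comp e0).toAlgebra
  have hF : Nat.card F = p := by rw [Nat.card_congr Equiv.ulift, Nat.card_zmod]
  let mk : R →+* MvPolynomial (Fin n) F := MvPolynomial.map (algebraMap R0 F)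
  have hev : ∀ z : Fin n → F, (eval z).comp mk = (aeval z).toRingHom := fun z =>
    MvPolynomial.ringHom_ext (fun a => by simp [mk]) (fun i => by simp [mk])
  have hne : ∀ z : R0, e0 z ≠ 0 → (e0 z).natAbs < p → algebraMap R0 F z ≠ 0 := fun z hz hlt h => by
    have h1 : ((e0 z : ℤ) : ZMod p) = 0 := by
      have h' : ((e0 z : ℤ) : F) = 0 := h
      have := congrArg (ULift.ringEquiv : F ≃+* ZMod p) h'
      rwa [map_intCast, map_zero] at this
    rw [ZMod.intCast_zmod_eq_zero_iff_dvd] at h1
    exact Nat.not_lt.2 (Nat.le_of_dvd (Int.natAbs_pos.2 hz) (Int.natCast_dvd.1 h1)) hlt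
  have hinj0 : Function.Injective e0 := zuEquiv.{u}.injective
  have hDp : algebraMap R0 F (eval a M.D) ≠ 0 :=
    hne _ (fun h => ha (hinj0 (h.trans (map_zero _).symm))) (by rw [← hD0]; omega)
  have hhp : mk M.h ≠ 0 := MvPolynomial.ne_zero_iff.2 ⟨e, by
    rw [coeff_map]; exact hne _ (fun h => he (hinj0 (h.trans (map_zero _).symm))) (by rw [← hh0]; omega)⟩
  -- the smooth point modulo `p`
  let b : Fin n → F := fun i => algebraMap R0 F (a i)
  let yF : F := ULift.up y
  have hab : (aeval b : R →ₐ[R0] F).toRingHom = (algebraMap R0 F).comp (eval a) :=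
    MvPolynomial.ringHom_ext (fun t => by simp) (fun i => by simp [b])
  have hg0 : Polynomial.eval₂ (aeval b).toRingHom yF M.g = 0 := by
    rw [hab]
    have h := congrArg (ULift.ringEquiv : F ≃+* ZMod p).symm.toRingHom hy
    rw [Polynomial.eval_map, Polynomial.hom_eval₂, map_zero, Polynomial.eval₂_map] at h
    refine Eq.trans ?_ h
    congr 1
  have hg1 : Polynomial.eval₂ (aeval b).toRingHom yF M.g.derivative ≠ 0 := by
    intro h0
    obtain ⟨U, V, hUV⟩ := M.sep
    apply hDp
    have h1 := congrArg (Polynomial.eval₂ (aeval b).toRingHom yF) hUV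
    rw [Polynomial.eval₂_add, Polynomial.eval₂_mul, Polynomial.eval₂_mul, hg0, h0, mul_zero, mul_zero, add_zero,
      Polynomial.eval₂_C, hab] at h1
    exact h1.symm
  haveI : Finite (A →+* F) := by
    haveI : Algebra.FiniteType ℤ A := by
      have h : (algebraMap R0 A).FiniteType := RingHom.finiteType_algebraMap.2 inferInstance
      have h' := h.comp (RingHom.FiniteType.of_surjective zuEquiv.{u}.symm.toRingHom
        zuEquiv.{u}.symm.surjective)
      rw [RingHom.eq_intCast' ((algebraMap R0 A).comp _)] at h'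
      exact RingHom.finiteType_algebraMap.1 ((RingHom.eq_intCast' (algebraMap ℤ A)).symm ▸ h')
    exact finite_ringHom A F
  have hx' : ∀ z : {z : Fin n → F // eval z (mk M.h) ≠ 0 ∧ ∃ y, ((M.g.map mk).map (eval z)).eval y = 0},
      ∃ φ : A →ₐ[R0] F, φ M.den ≠ 0 ∧ ∀ i, φ (M.num i) = z.1 i * φ M.den := by
    rintro ⟨z, hh, w, hw⟩
    refine M.exists_algHom z w ?_ ?_
    · rw [Polynomial.map_map, hev, Polynomial.eval_map] at hw; exact hw
    · intro h0; apply hh
      rw [← RingHom.comp_apply, hev]; exact h0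
  choose Φ hΦ0 hΦ using hx'
  have hΦinj : Function.Injective fun z => (Φ z).toRingHom := fun z z' e' => Subtype.ext (funext fun i => by
    have h1 := hΦ z i
    rw [show Φ z = Φ z' from AlgHom.coe_ringHom_injective e', hΦ z' i] at h1
    exact (mul_right_cancel₀ (hΦ0 z') h1).symm)
  have hle : (p : ℝ) ^ ((r : ℝ) - 1) ≤ (p : ℝ) ^ n := by
    rw [← Real.rpow_natCast]
    refine Real.rpow_le_rpow_of_exponent_le (by exact_mod_cast hp.one_le) ?_
    have : (r : ℝ) ≤ n + 1 := by exact_mod_cast hrn
    linarith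
  refine (mul_le_mul_of_nonneg_left hle (le_min zero_le_one (by positivity))).trans ?_
  rcases Nat.eq_zero_or_pos n with hn | hn
  · haveI : IsEmpty (Fin n) := by rw [hn]; infer_instance
    have h1 : 1 ≤ Nat.card {z : Fin n → F // eval z (mk M.h) ≠ 0 ∧ ∃ y, ((M.g.map mk).map (eval z)).eval y = 0} := by
      refine Finite.card_pos_iff.2 ⟨⟨b, ?_, yF, ?_⟩⟩
      · intro h0
        apply hhp
        rw [MvPolynomial.eq_C_of_isEmpty (mk M.h)] at h0 ⊢
        rw [eval_C] at h0
        rw [h0, map_zero]
      · rw [Polynomial.map_map, hev, Polynomial.eval_map]; exact hg0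
    have h2 := h1.trans (Nat.card_le_card_of_injective _ hΦinj)
    have h3 : min 1 (1 / (8 * (d : ℝ))) * (p : ℝ) ^ n ≤ 1 := by rw [hn, pow_zero, mul_one]; exact min_le_left _ _
    exact h3.trans (by exact_mod_cast h2)
  have htd : ∀ q : R, (mk q).totalDegree ≤ q.totalDegree := fun q =>
    Finset.sup_mono (MvPolynomial.support_map_subset (f := algebraMap R0 F) q)
  have hnd : (M.g.map mk).natDegree = d := M.monic.natDegree_map mk
  have hcount := card_roots_mv_ge hn (M.g.map mk) (M.monic.map _) (hnd ▸ M.one_le) cb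
    (fun i => by
      rw [Polynomial.coeff_map]
      refine (htd _).trans ?_
      by_cases hi : i ∈ M.g.support
      · exact Finset.le_sup (f := fun i => (M.g.coeff i).totalDegree) hi
      · rw [Polynomial.notMem_support_iff.1 hi]; simp)
    b yF
    (by rw [Polynomial.map_map, hev, Polynomial.eval_map]; exact hg0)
    (by rw [Polynomial.map_map, hev, Polynomial.derivative_map, Polynomial.eval_map]; exact hg1)
    (mk M.h) hhp
    (by
      rw [hnd, hF]
      exact le_trans (Nat.mul_le_mul_left _ (Nat.pow_le_pow_left (Nat.add_le_add_right (Nat.mul_le_mul_left _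
        (Nat.add_le_add_right (Nat.add_le_add_left (htd M.h) _) _)) _) 2)) ((le_max_right _ _).trans hP))
  rw [hnd, hF] at hcount
  refine le_trans ?_ (hcount.trans (Nat.cast_le.2 (Nat.card_le_card_of_injective _ hΦinj)))
  rw [div_eq_mul_one_div ((p : ℝ) ^ n), mul_comm ((p : ℝ) ^ n)]
  exact mul_le_mul_of_nonneg_right (min_le_right _ _) (by positivity)

end Groth.Agent.ZetaLib
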