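import Groth.Agent.ZetaLib.EulerProd
import Mathlib.RingTheory.Ideal.Quotient.HasFiniteQuotients
import Mathlib.RingTheory.Fintype
import Mathlib.NumberTheory.NumberField.DedekindZeta
import Mathlib.RingTheory.DedekindDomain.Ideal.Lemmas
import Mathlib.FieldTheory.SplittingField.Construction
import Mathlib.Analysis.PSeries

/-!
# Many primes modulo which a given monic integer polynomial has a root
-/

set_option autoImplicit false

open NumberField IsDedekindDomain Filter Topology nonZeroDivisors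

namespace Groth.Agent.ZetaLib

variable (L : Type) [Field L] [NumberField L]

theorem not_summable_heightOne {σ : ℝ} (hσ0 : 0 < σ) (hσ : σ < 1) :
    ¬ Summable fun P : HeightOneSpectrum (𝓞 L) => (Ideal.absNorm P.asIdeal : ℝ) ^ (-σ) := by
  classical
  intro hs
  let t : HeightOneSpectrum (𝓞 L) → ℂ := fun P => (((Ideal.absNorm P.asIdeal : ℝ) ^ (-σ) : ℝ) : ℂ)
  have h2 : ∀ P : HeightOneSpectrum (𝓞 L), 2 ≤ Ideal.absNorm P.asIdeal := fun P => by
    have h0 : Ideal.absNorm P.asIdeal ≠ 0 := fun h => P.ne_bot (Ideal.absNorm_eq_zero_iff.1 h)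
    have h1 : Ideal.absNorm P.asIdeal ≠ 1 := fun h => P.isPrime.ne_top (Ideal.absNorm_eq_one_iff.1 h)
    omega
  have hnorm : ∀ P, ‖t P‖ = (Ideal.absNorm P.asIdeal : ℝ) ^ (-σ) := fun P => by
    rw [Complex.norm_real, Real.norm_of_nonneg (Real.rpow_nonneg (Nat.cast_nonneg _) _)]
  have ht : ∀ P, ‖t P‖ ≤ (2 : ℝ) ^ (-σ) := fun P => by
    rw [hnorm]
    exact Real.rpow_le_rpow_of_nonpos two_pos (by exact_mod_cast h2 P) (by linarith)
  have hsum := summable_norm_wt t (Real.rpow_lt_one_of_one_lt_of_neg one_lt_two (by linarith)) ht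
    (by simpa [hnorm] using hs)
  -- factorisations
  have hfac : ∀ I : Ideal (𝓞 L), I ≠ 0 →
      ∃ α : HeightOneSpectrum (𝓞 L) →₀ ℕ, (α.prod fun P m => P.asIdeal ^ m) = I := fun I hI => by
    induction I using UniqueFactorizationMonoid.induction_on_prime with
    | h₁ => exact absurd rfl hI
    | h₂ x hx => exact ⟨0, by rw [Finsupp.prod_zero_index, isUnit_iff_eq_one.1 hx]⟩
    | h₃ a p ha hp ih =>
      obtain ⟨α, hα⟩ := ih ha
      refine ⟨α + Finsupp.single ⟨p, Ideal.isPrime_of_prime hp, hp.ne_zero⟩ 1, ?_⟩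
      rw [Finsupp.prod_add_index' (fun _ => pow_zero _) (fun _ _ _ => pow_add _ _ _),
        Finsupp.prod_single_index (h := fun (P : HeightOneSpectrum (𝓞 L)) m => P.asIdeal ^ m) (pow_zero _),
        hα, pow_one, mul_comm]
  choose α hα using hfac
  have hwt : ∀ (I : Ideal (𝓞 L)) (hI : I ≠ 0), ‖wt t (α I hI)‖ = (Ideal.absNorm I : ℝ) ^ (-σ) := fun I hI => by
    rw [norm_wt]
    conv_rhs => rw [← hα I hI]
    rw [Finsupp.prod, Finsupp.prod, map_prod, Nat.cast_prod,
      ← Real.finsetProd_rpow _ _ (fun _ _ => Nat.cast_nonneg _)]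
    refine Finset.prod_congr rfl fun P _ => ?_
    rw [hnorm, map_pow, Nat.cast_pow, Real.rpow_pow_comm (Nat.cast_nonneg _)]
  set C := ∑' a, ‖wt t a‖
  have hcount : ∀ s : ℝ, 1 ≤ s →
      (Nat.card {I : (Ideal (𝓞 L))⁰ // Ideal.absNorm (I : Ideal (𝓞 L)) ≤ s} : ℝ) ≤ C * s ^ σ := by
    intro s hs1
    haveI : Finite {I : (Ideal (𝓞 L))⁰ // Ideal.absNorm (I : Ideal (𝓞 L)) ≤ s} := by
      haveI : Finite {I : Ideal (𝓞 L) | Ideal.absNorm I ≤ ⌊s⌋₊} := (Ideal.finite_setOfPred_absNorm_le _).to_subtype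
      let j : {I : (Ideal (𝓞 L))⁰ // Ideal.absNorm (I : Ideal (𝓞 L)) ≤ s} →
          {I : Ideal (𝓞 L) | Ideal.absNorm I ≤ ⌊s⌋₊} := fun I => ⟨I.1.1, Nat.le_floor I.2⟩
      exact Finite.of_injective j fun I J h => Subtype.ext (Subtype.ext (congrArg Subtype.val h :))
    haveI := Fintype.ofFinite {I : (Ideal (𝓞 L))⁰ // Ideal.absNorm (I : Ideal (𝓞 L)) ≤ s}
    let F : {I : (Ideal (𝓞 L))⁰ // Ideal.absNorm (I : Ideal (𝓞 L)) ≤ s} → (HeightOneSpectrum (𝓞 L) →₀ ℕ) :=
      fun I => α I.1.1 (nonZeroDivisors.ne_zero I.1.2)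
    have hF : Function.Injective F := fun I J h => Subtype.ext (Subtype.ext
      ((hα _ (nonZeroDivisors.ne_zero I.1.2)).symm.trans
        ((congrArg (fun a : HeightOneSpectrum (𝓞 L) →₀ ℕ => a.prod fun P m => P.asIdeal ^ m) h).trans
          (hα _ (nonZeroDivisors.ne_zero J.1.2)))))
    have hle : ∑ I, ‖wt t (F I)‖ ≤ C := by
      rw [← Finset.sum_image (f := fun a => ‖wt t a‖) fun I _ J _ h => hF h]
      exact hsum.sum_le_tsum _ fun a _ => norm_nonneg _
    have hs0 : (0 : ℝ) < s ^ σ := Real.rpow_pos_of_pos (by linarith) _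
    rw [← div_le_iff₀ hs0, Nat.card_eq_fintype_card, div_eq_mul_inv, ← Real.rpow_neg (by linarith),
      ← nsmul_eq_mul, ← Finset.card_univ]
    refine le_trans (Finset.card_nsmul_le_sum _ _ _ fun I _ => ?_) hle
    rw [hwt]
    exact Real.rpow_le_rpow_of_nonpos
      (by exact_mod_cast Nat.pos_of_ne_zero fun h => nonZeroDivisors.ne_zero I.1.2 (Ideal.absNorm_eq_zero_iff.1 h))
      I.2 (by linarith)
  have hlim := Ideal.tendsto_norm_le_div_atTop₀ L
  have h0 : Tendsto (fun s : ℝ => C * s ^ (σ - 1)) atTop (𝓝 0) := by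
    have h := (tendsto_rpow_neg_atTop (y := 1 - σ) (by linarith)).const_mul C
    simpa using h
  have hle := le_of_tendsto_of_tendsto hlim h0 (by
    filter_upwards [eventually_ge_atTop 1] with s hs1
    rw [Real.rpow_sub_one (by linarith), ← mul_div_assoc]
    exact div_le_div_of_nonneg_right (hcount s hs1) (by linarith))
  rw [← dedekindZeta_residue_def] at hle
  linarith [dedekindZeta_residue_pos L]

/-- **Divergence over primes modulo which `G` has a root.** -/
theorem not_summable_primes_with_root (G : Polynomial ℤ) (hG : G.Monic) (hd : 1 ≤ G.natDegree) {σ : ℝ} (hσ : σ < 1)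
    (P₀ : ℕ) :
    ¬ Summable ({p : ℕ | p.Prime ∧ P₀ ≤ p ∧ ∃ y : ZMod p, (G.map (Int.castRingHom (ZMod p))).eval y = 0}.indicator
      fun p => (p : ℝ) ^ (-σ)) := by
  classical
  intro hs
  set S := {p : ℕ | p.Prime ∧ P₀ ≤ p ∧ ∃ y : ZMod p, (G.map (Int.castRingHom (ZMod p))).eval y = 0} with hS
  set τ := max σ (3 / 4) with hτ
  have hτ1 : τ < 1 := max_lt hσ (by norm_num)
  have hτ34 : 3 / 4 ≤ τ := le_max_right _ _
  let g : ℕ → ℝ := fun p => S.indicator (fun p => (p : ℝ) ^ (-σ)) p + (p : ℝ) ^ (-(2 * τ)) +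
    (↑(Finset.range P₀) : Set ℕ).indicator (fun _ => 1) p
  have hg0 : ∀ p, 0 ≤ g p := fun p => by
    have h1 : 0 ≤ S.indicator (fun p => (p : ℝ) ^ (-σ)) p :=
      Set.indicator_nonneg (fun p _ => Real.rpow_nonneg (Nat.cast_nonneg _) _) p
    have h2 : (0 : ℝ) ≤ (↑(Finset.range P₀) : Set ℕ).indicator (fun _ => 1) p :=
      Set.indicator_nonneg (fun _ _ => zero_le_one) p
    have h3 := Real.rpow_nonneg (Nat.cast_nonneg (α := ℝ) p) (-(2 * τ))
    simp only [g]; linarith
  have hg : Summable g := (hs.add (Real.summable_nat_rpow.2 (by linarith))).add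
    (summable_of_ne_finset_zero (s := Finset.range P₀) fun p hp => Set.indicator_of_notMem (by simpa using hp) _)
  let Q := G.map (Int.castRingHom ℚ)
  let L := Q.SplittingField
  haveI : NumberField L := ⟨⟩
  obtain ⟨y, hy⟩ := Polynomial.Splits.exists_eval_eq_zero (Polynomial.SplittingField.splits Q)
    (by
      rw [Polynomial.degree_map, hG.degree_map]
      intro h
      have := Polynomial.natDegree_eq_zero_iff_degree_le_zero.2 h.le
      omega)
  rw [Polynomial.eval_map, Polynomial.eval₂_map] at hy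
  replace hy : Polynomial.eval₂ (Int.castRingHom L) y G = 0 := by
    refine Eq.trans ?_ hy
    congr 1
  let yO : 𝓞 L := ⟨y, G, hG, by convert! hy using 2 <;> first | rfl | exact RingHom.ext_int _ _⟩
  have hyO : Polynomial.eval₂ (Int.castRingHom (𝓞 L)) yO G = 0 := by
    refine FaithfulSMul.algebraMap_injective (𝓞 L) L ?_
    rw [Polynomial.hom_eval₂, map_zero,
      show (algebraMap (𝓞 L) L).comp (Int.castRingHom (𝓞 L)) = Int.castRingHom L from RingHom.ext_int _ _]
    exact hy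
  refine not_summable_heightOne L (σ := τ) (by linarith) hτ1 ?_
  -- norms are prime powers
  have hpf : ∀ P : HeightOneSpectrum (𝓞 L), ∃ p m : ℕ, p.Prime ∧ 1 ≤ m ∧ Ideal.absNorm P.asIdeal = p ^ m := fun P => by
    haveI := P.isMaximal
    haveI : Finite (𝓞 L ⧸ P.asIdeal) := Ring.HasFiniteQuotients.finiteQuotient P.ne_bot
    letI := Ideal.Quotient.field P.asIdeal
    haveI := Fintype.ofFinite (𝓞 L ⧸ P.asIdeal)
    obtain ⟨p, hp⟩ := CharP.exists (𝓞 L ⧸ P.asIdeal)
    obtain ⟨m, hp', hm⟩ := FiniteField.card (𝓞 L ⧸ P.asIdeal) p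
    refine ⟨p, m, hp', m.pos, ?_⟩
    rw [Ideal.absNorm_apply, Submodule.cardQuot_apply, Nat.card_eq_fintype_card]
    exact hm
  choose p m hp hm hpm using hpf
  have hterm : ∀ P, (Ideal.absNorm P.asIdeal : ℝ) ^ (-τ) ≤ g (p P) := by
    intro P
    rw [hpm]
    have hp1 : (1 : ℝ) ≤ p P := by exact_mod_cast (hp P).one_le
    have hS0 : 0 ≤ S.indicator (fun p => (p : ℝ) ^ (-σ)) (p P) :=
      Set.indicator_nonneg (fun p _ => Real.rpow_nonneg (Nat.cast_nonneg _) _) _
    have hI0 : (0 : ℝ) ≤ (↑(Finset.range P₀) : Set ℕ).indicator (fun _ => 1) (p P) :=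
      Set.indicator_nonneg (fun _ _ => zero_le_one) _
    have h20 := Real.rpow_nonneg (Nat.cast_nonneg (α := ℝ) (p P)) (-(2 * τ))
    rcases Nat.lt_or_ge (p P) P₀ with hlt | hge
    · have h1 : ((p P ^ m P : ℕ) : ℝ) ^ (-τ) ≤ 1 :=
        Real.rpow_le_one_of_one_le_of_nonpos (by exact_mod_cast Nat.one_le_pow _ _ (hp P).pos) (by linarith)
      simp only [g, Set.indicator_of_mem (show p P ∈ ((Finset.range P₀ : Finset ℕ) : Set ℕ) from
        Finset.mem_range.2 hlt)]
      linarith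
    rcases Nat.lt_or_ge (m P) 2 with hm1 | hm2
    · have hmem : p P ∈ S := by
        have hm1' : m P = 1 := by have := hm P; omega
        haveI := P.isMaximal
        haveI : Finite (𝓞 L ⧸ P.asIdeal) := Ring.HasFiniteQuotients.finiteQuotient P.ne_bot
        haveI := Fintype.ofFinite (𝓞 L ⧸ P.asIdeal)
        have hc : Fintype.card (𝓞 L ⧸ P.asIdeal) = p P := by
          rw [← Nat.card_eq_fintype_card, ← Submodule.cardQuot_apply, ← Ideal.absNorm_apply, hpm, hm1', pow_one]
        let e := (ZMod.ringEquivOfPrime (𝓞 L ⧸ P.asIdeal) (hp P) hc).symm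
        refine ⟨hp P, hge, e (Ideal.Quotient.mk _ yO), ?_⟩
        rw [Polynomial.eval_map]
        have h := congrArg (e.toRingHom.comp (Ideal.Quotient.mk P.asIdeal)) hyO
        rw [Polynomial.hom_eval₂, map_zero,
          show (e.toRingHom.comp (Ideal.Quotient.mk P.asIdeal)).comp (Int.castRingHom (𝓞 L)) =
            Int.castRingHom (ZMod (p P)) from RingHom.ext_int _ _] at h
        exact h
      have h1 : ((p P ^ m P : ℕ) : ℝ) ^ (-τ) ≤ (p P : ℝ) ^ (-σ) := by
        rw [show m P = 1 by have := hm P; omega, pow_one]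
        exact Real.rpow_le_rpow_of_exponent_le hp1 (neg_le_neg (le_max_left _ _))
      simp only [g, Set.indicator_of_mem hmem]
      linarith
    · have h1 : ((p P ^ m P : ℕ) : ℝ) ^ (-τ) ≤ (p P : ℝ) ^ (-(2 * τ)) := by
        rw [Nat.cast_pow, ← Real.rpow_natCast, ← Real.rpow_mul (Nat.cast_nonneg _)]
        refine Real.rpow_le_rpow_of_exponent_le hp1 ?_
        have : (2 : ℝ) ≤ m P := by exact_mod_cast hm2
        nlinarith
      simp only [g]
      linarith
  refine summable_of_sum_le (c := Module.finrank ℤ (𝓞 L) * ∑' q, g q)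
    (fun P => Real.rpow_nonneg (Nat.cast_nonneg _) _) fun T => ?_
  refine (Finset.sum_le_sum fun P _ => hterm P).trans ?_
  rw [← Finset.sum_fiberwise_of_maps_to (fun P hP => Finset.mem_image_of_mem p hP) (fun P => g (p P))]
  refine le_trans (Finset.sum_le_sum (g := fun q => Module.finrank ℤ (𝓞 L) * g q) fun q hq => ?_) ?_
  · obtain ⟨P, -, rfl⟩ := Finset.mem_image.1 hq
    rw [Finset.sum_congr rfl (g := fun _ => g (p P)) fun P' hP' => by rw [(Finset.mem_filter.1 hP').2],
      Finset.sum_const, nsmul_eq_mul]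
    refine mul_le_mul_of_nonneg_right (Nat.cast_le.2 ?_) (hg0 _)
    set F := T.filter fun P' => p P' = p P with hF
    have hdvd : ∏ P' ∈ F.image HeightOneSpectrum.asIdeal, P' ∣ Ideal.span {((p P : ℕ) : 𝓞 L)} := by
      refine Finset.prod_primes_dvd _ (fun I hI => ?_) (fun I hI => ?_)
      · obtain ⟨P', -, rfl⟩ := Finset.mem_image.1 hI
        exact P'.prime
      · obtain ⟨P', hP', rfl⟩ := Finset.mem_image.1 hI
        rw [Ideal.dvd_iff_le, Ideal.span_singleton_le_iff_mem, ← (Finset.mem_filter.1 hP').2]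
        refine P'.isPrime.mem_of_pow_mem (m P') ?_
        rw [← Nat.cast_pow, ← hpm]
        exact Ideal.absNorm_mem _
    have h2 := map_dvd Ideal.absNorm hdvd
    rw [Ideal.absNorm_span_natCast, map_prod, Finset.prod_image fun a _ b _ h => HeightOneSpectrum.ext h] at h2
    have h3 : p P ^ F.card ≤ ∏ P' ∈ F, Ideal.absNorm P'.asIdeal := by
      rw [← Finset.prod_const]
      refine Finset.prod_le_prod (fun _ _ => Nat.zero_le _) fun P' hP' => ?_
      rw [hpm, (Finset.mem_filter.1 hP').2]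
      exact Nat.le_self_pow (by have := hm P'; omega) _
    exact (Nat.pow_le_pow_iff_right (hp P).one_lt).1 (h3.trans (Nat.le_of_dvd (pow_pos (hp P).pos _) h2))
  · rw [← Finset.mul_sum]
    exact mul_le_mul_of_nonneg_left (hg.sum_le_tsum _ fun q _ => hg0 q) (Nat.cast_nonneg _)

end Groth.Agent.ZetaLib
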