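import Mathlib
import Groth.Agent.FF.PlaneCount

/-!
# Lower bound for the rational roots of a polynomial in several variables, by lines through a smooth point
-/

set_option autoImplicit false
set_option linter.style.haveILetI false

universe u

open MvPolynomial

namespace Groth.Agent.ZetaLib

theorem natDegree_aeval_le {σ F : Type*} [CommRing F] (L : σ → Polynomial F) (hL : ∀ i, (L i).natDegree ≤ 1)
    (p : MvPolynomial σ F) : (aeval L p).natDegree ≤ p.totalDegree := by
  conv_lhs => rw [← support_sum_monomial_coeff p]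
  rw [map_sum]
  refine Polynomial.natDegree_sum_le_of_forall_le _ _ fun e he => ?_
  rw [aeval_monomial]
  refine Polynomial.natDegree_mul_le.trans ?_
  rw [Polynomial.algebraMap_apply, Polynomial.natDegree_C, zero_add]
  refine (Polynomial.natDegree_prod_le _ _).trans ?_
  refine le_trans ?_ (le_totalDegree he)
  refine Finset.sum_le_sum fun i _ => ?_
  refine Polynomial.natDegree_pow_le.trans ?_
  exact (Nat.mul_le_mul_left _ (hL i)).trans_eq (mul_one _)

variable {F : Type u} [Field F] [Finite F]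

theorem card_bad_le {r : ℕ} (hr : 1 ≤ r) {h : MvPolynomial (Fin r) F} (hh : h ≠ 0) :
    Nat.card {x : Fin r → F // eval x h = 0} ≤ h.totalDegree * Nat.card F ^ (r - 1) := by
  classical
  haveI := Fintype.ofFinite F
  have hS := schwartz_zippel_totalDegree hh (Finset.univ : Finset F)
  rw [Nat.card_eq_fintype_card, Fintype.card_subtype, Nat.card_eq_fintype_card]
  rw [Fintype.piFinset_univ, Finset.card_univ] at hS
  set q := Fintype.card F
  set B := (Finset.univ.filter fun x : Fin r → F => eval x h = 0).card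
  have hq : (0 : ℚ≥0) < q := by exact_mod_cast Fintype.card_pos
  rw [div_le_div_iff₀ (by positivity) hq] at hS
  have h2 : (B : ℚ≥0) * q ≤ ((h.totalDegree * q ^ (r - 1) : ℕ) : ℚ≥0) * q := by
    refine hS.trans_eq ?_
    push_cast
    rw [mul_assoc, ← pow_succ, Nat.sub_add_cancel hr]
  exact_mod_cast le_of_mul_le_mul_right h2 hq

/-- **Lines through a smooth rational point.** -/
theorem card_roots_mv_ge {r : ℕ} (hr : 1 ≤ r) (g : Polynomial (MvPolynomial (Fin r) F)) (hg : g.Monic)
    (hd : 1 ≤ g.natDegree) (c : ℕ) (hc : ∀ i, (g.coeff i).totalDegree ≤ c) (P₀ : Fin r → F) (y₀ : F)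
    (h0 : (g.map (eval P₀)).eval y₀ = 0) (h1 : (g.map (eval P₀)).derivative.eval y₀ ≠ 0)
    (h : MvPolynomial (Fin r) F) (hh : h ≠ 0)
    (hbig : 16 * (g.natDegree * (c * g.natDegree ^ 2 + h.totalDegree + 1) + 1) ^ 2 ≤ Nat.card F) :
    (Nat.card F : ℝ) ^ r / (8 * g.natDegree) ≤
      Nat.card {x : Fin r → F // eval x h ≠ 0 ∧ ∃ y, (g.map (eval x)).eval y = 0} := by
  classical
  haveI := Fintype.ofFinite F
  set d := g.natDegree with hd'
  set q := Nat.card F with hq
  set G := c * d ^ 2 with hG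
  let line : (Fin r → F) → MvPolynomial (Fin r) F →+* Polynomial F := fun v =>
    (aeval (fun i => Polynomial.C (P₀ i) + Polynomial.C (v i) * Polynomial.X) :
      MvPolynomial (Fin r) F →ₐ[F] Polynomial F).toRingHom
  have hline : ∀ v t₀, (Polynomial.evalRingHom t₀).comp (line v) = eval (P₀ + t₀ • v) := fun v t₀ => by
    refine MvPolynomial.ringHom_ext (fun a => ?_) (fun i => ?_)
    · simp [line]
    · simp only [line, RingHom.comp_apply, AlgHom.toRingHom_eq_coe, RingHom.coe_coe, aeval_X, eval_X, map_add, map_mul, Polynomial.coe_evalRingHom, Polynomial.eval_C, Polynomial.eval_X, Pi.add_apply, Pi.smul_apply, smul_eq_mul]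
      ring
  have hmap : ∀ v t₀, (g.map (line v)).map (Polynomial.evalRingHom t₀) = g.map (eval (P₀ + t₀ • v)) := fun v t₀ => by
    rw [Polynomial.map_map, hline]
  -- the count on each line
  have hcount : ∀ v : Fin r → F, (q : ℝ) + 1 - 2 * (G : ℕ) * Real.sqrt q ≤
      d * (Nat.card {t₀ : F // ∃ y, (g.map (eval (P₀ + t₀ • v))).eval y = 0} + 1 : ℕ) := by
    intro v
    have hnd : (g.map (line v)).natDegree = d := hg.natDegree_map _
    have := FF.card_roots_ge (g.map (line v)) (hg.map _) c (fun i => by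
        rw [Polynomial.coeff_map]
        refine (natDegree_aeval_le _ (fun j => ?_) _).trans (hc i)
        refine (Polynomial.natDegree_add_le _ _).trans (max_le (by simp) ?_)
        exact (Polynomial.natDegree_C_mul_le _ _).trans Polynomial.natDegree_X_le) y₀
      (by rw [hmap, zero_smul, add_zero]; exact h0) (by rw [hmap, zero_smul, add_zero]; exact h1)
    rw [hnd] at this
    simp only [hmap] at this
    exact this
  let root : (Fin r → F) → Prop := fun x => ∃ y, (g.map (eval x)).eval y = 0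
  let A := Finset.univ.filter root
  let Pairs := (Finset.univ : Finset ((Fin r → F) × F)).filter
    fun p => p.1 ≠ 0 ∧ p.2 ≠ 0 ∧ root (P₀ + p.2 • p.1)
  have hfib : Pairs.card ≤ q * A.card := by
    have hmaps : ∀ p ∈ Pairs, P₀ + p.2 • p.1 ∈ A := fun p hp =>
      Finset.mem_filter.2 ⟨Finset.mem_univ _, (Finset.mem_filter.1 hp).2.2.2⟩
    refine (Finset.card_le_mul_card_image_of_maps_to hmaps q fun x _ => ?_)
    rw [hq, Nat.card_eq_fintype_card, ← Finset.card_univ]
    refine Finset.card_le_card_of_injOn Prod.snd (fun p _ => Finset.mem_univ _) ?_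
    intro p hp p' hp' e
    simp only [Finset.coe_filter, Set.mem_ofPred_eq] at hp hp'
    have hp0 := (Finset.mem_filter.1 hp.1).2.2.1
    refine Prod.ext ?_ e
    have h2 : p.2 • p.1 = p.2 • p'.1 := by
      have := hp.2.trans hp'.2.symm
      rw [← e] at this
      exact add_left_cancel this
    exact smul_right_injective (Fin r → F) hp0 h2
  have hlow : ((q : ℝ) ^ r - 1) * (((q : ℝ) + 1 - 2 * (G : ℕ) * Real.sqrt q) / d - 2) ≤ Pairs.card := by
    let per : (Fin r → F) → ℕ := fun v =>
      ((Finset.univ : Finset F).filter fun t₀ => t₀ ≠ 0 ∧ root (P₀ + t₀ • v)).card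
    have hsum : Pairs.card = ∑ v ∈ Finset.univ.filter (fun v : Fin r → F => v ≠ 0), per v := by
      rw [← Finset.card_sigma]
      refine Finset.card_nbij' (fun p => ⟨p.1, p.2⟩) (fun s => (s.1, s.2)) ?_ ?_ ?_ ?_
      · intro p hp; simp [Pairs] at hp ⊢; exact hp
      · intro s hs; simp [Pairs] at hs ⊢; exact hs
      · intro p _; rfl
      · intro s _; rfl
    have hper : ∀ v, ((q : ℝ) + 1 - 2 * (G : ℕ) * Real.sqrt q) / d - 2 ≤ per v := by
      intro v
      have h' := hcount v
      have hle : Nat.card {t₀ : F // ∃ y, (g.map (eval (P₀ + t₀ • v))).eval y = 0} ≤ per v + 1 := by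
        rw [Nat.card_eq_fintype_card, Fintype.card_subtype]
        refine (Finset.card_le_card fun t₀ ht => ?_).trans (Finset.card_insert_le 0
          ((Finset.univ : Finset F).filter fun t₀ => t₀ ≠ 0 ∧ root (P₀ + t₀ • v)))
        rcases eq_or_ne t₀ 0 with rfl | ht0
        · exact Finset.mem_insert_self _ _
        · exact Finset.mem_insert_of_mem (Finset.mem_filter.2 ⟨Finset.mem_univ _, ht0, (Finset.mem_filter.1 ht).2⟩)
      have hd0 : (0 : ℝ) < d := by exact_mod_cast hd
      rw [sub_le_iff_le_add, div_le_iff₀ hd0]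
      refine h'.trans ?_
      have hle' : (Nat.card {t₀ : F // ∃ y, (g.map (eval (P₀ + t₀ • v))).eval y = 0} : ℝ) ≤ per v + 1 := by
        exact_mod_cast hle
      push_cast
      nlinarith
    have hcardv : ((Finset.univ.filter fun v : Fin r → F => v ≠ 0).card : ℝ) = (q : ℝ) ^ r - 1 := by
      rw [Finset.filter_ne', Finset.card_erase_of_mem (Finset.mem_univ _), Finset.card_univ, Fintype.card_fun,
        Fintype.card_fin, ← Nat.card_eq_fintype_card, ← hq,
        Nat.cast_sub (Nat.one_le_pow _ _ Nat.card_pos)]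
      push_cast; rfl
    rw [hsum, Nat.cast_sum, ← hcardv, ← nsmul_eq_mul]
    exact Finset.card_nsmul_le_sum _ _ _ fun v _ => hper v
  -- arithmetic
  have hqpos : (0 : ℝ) < q := by exact_mod_cast Nat.card_pos
  have hd1 : (1 : ℝ) ≤ d := by exact_mod_cast hd
  have hbig' : 16 * ((d : ℝ) * ((G : ℕ) + h.totalDegree + 1) + 1) ^ 2 ≤ q := by exact_mod_cast hbig
  have hsq : 4 * ((d : ℝ) * ((G : ℕ) + h.totalDegree + 1) + 1) ≤ Real.sqrt q := by
    refine Real.le_sqrt_of_sq_le ?_
    nlinarith
  have hsqq : Real.sqrt q * Real.sqrt q = q := Real.mul_self_sqrt hqpos.le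
  have hG0 : (0 : ℝ) ≤ (G : ℕ) := Nat.cast_nonneg _
  have hT0 : (0 : ℝ) ≤ (h.totalDegree : ℕ) := Nat.cast_nonneg _
  set E : ℕ := h.totalDegree with hE
  have hs0 : 0 ≤ Real.sqrt q := Real.sqrt_nonneg _
  set X : ℝ := (d : ℝ) * ((G : ℕ) + (E : ℕ) + 1) + 1 with hX
  have hdE : (E : ℝ) * d ≤ X := by
    nlinarith [mul_nonneg (le_trans zero_le_one hd1) hG0]
  have hdG : (G : ℝ) * d + d + 1 ≤ X := by
    nlinarith [mul_nonneg (le_trans zero_le_one hd1) hT0]
  have hX2 : 2 ≤ X := by nlinarith [mul_nonneg hG0 (le_trans zero_le_one hd1)]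
  have hA1 : (q : ℝ) / (2 * d) ≤ ((q : ℝ) + 1 - 2 * (G : ℕ) * Real.sqrt q) / d - 2 := by
    have hd0 : (0 : ℝ) < d := by linarith
    rw [le_sub_iff_add_le, le_div_iff₀ hd0, add_mul, show (q : ℝ) / (2 * d) * d = q / 2 by field_simp]
    have h4 : 4 * X * Real.sqrt q ≤ q := (mul_le_mul_of_nonneg_right hsq hs0).trans_eq hsqq
    have hGd : (G : ℝ) * Real.sqrt q + d * Real.sqrt q ≤ X * Real.sqrt q := by
      rw [← add_mul]
      refine mul_le_mul_of_nonneg_right ?_ hs0
      nlinarith [mul_le_mul_of_nonneg_left hd1 hG0]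
    nlinarith [mul_le_mul_of_nonneg_left (show (4 : ℝ) ≤ Real.sqrt q by linarith) (le_trans zero_le_one hd1)]
  have hqr : (q : ℝ) ≤ (q : ℝ) ^ r := le_self_pow₀ (by exact_mod_cast Nat.one_le_iff_ne_zero.2 Nat.card_pos.ne') (by omega)
  have hq2 : (2 : ℝ) ≤ q := by nlinarith [mul_le_mul hX2 hX2 (by norm_num) (by linarith)]
  have hApairs : ((q : ℝ) ^ r - 1) * ((q : ℝ) / (2 * d)) ≤ q * (A.card : ℝ) := by
    refine (mul_le_mul_of_nonneg_left hA1 (by linarith)).trans (hlow.trans ?_)
    exact_mod_cast hfib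
  have hA : (q : ℝ) ^ r / (4 * d) ≤ A.card := by
    have h2 : ((q : ℝ) ^ r - 1) / (2 * d) ≤ A.card := by
      refine le_of_mul_le_mul_left ?_ hqpos
      calc (q : ℝ) * (((q : ℝ) ^ r - 1) / (2 * d)) = ((q : ℝ) ^ r - 1) * ((q : ℝ) / (2 * d)) := by ring
        _ ≤ q * A.card := hApairs
    refine le_trans ?_ h2
    rw [div_le_div_iff₀ (by linarith) (by linarith)]
    nlinarith
  have hbad := card_bad_le hr hh
  have hsplit : A.card ≤ Nat.card {x : Fin r → F // eval x h ≠ 0 ∧ root x} + Nat.card {x : Fin r → F // eval x h = 0} := by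
    rw [Nat.card_eq_fintype_card, Nat.card_eq_fintype_card, Fintype.card_subtype, Fintype.card_subtype]
    refine (Finset.card_le_card fun x hx => ?_).trans (Finset.card_union_le _ _)
    rcases eq_or_ne (eval x h) 0 with e | e
    · exact Finset.mem_union_right _ (Finset.mem_filter.2 ⟨Finset.mem_univ _, e⟩)
    · exact Finset.mem_union_left _ (Finset.mem_filter.2 ⟨Finset.mem_univ _, e, (Finset.mem_filter.1 hx).2⟩)
  have hsplit' : (A.card : ℝ) ≤ Nat.card {x : Fin r → F // eval x h ≠ 0 ∧ root x} +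
      (E : ℝ) * (q : ℝ) ^ (r - 1) := by
    have := hsplit.trans (Nat.add_le_add_left hbad _)
    exact_mod_cast this
  have hEq : (E : ℝ) * (q : ℝ) ^ (r - 1) ≤ (q : ℝ) ^ r / (8 * d) := by
    rw [le_div_iff₀ (by linarith), show (q : ℝ) ^ r = (q : ℝ) ^ (r - 1) * q by rw [← pow_succ, Nat.sub_add_cancel hr]]
    have h8 : (E : ℝ) * (8 * d) ≤ q := by nlinarith [mul_le_mul_of_nonneg_left hX2 (by linarith : (0 : ℝ) ≤ X)]
    nlinarith [pow_nonneg hqpos.le (r - 1)]
  have e8 : (q : ℝ) ^ r / (4 * d) = 2 * ((q : ℝ) ^ r / (8 * d)) := by ring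
  linarith

end Groth.Agent.ZetaLib
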